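import Cfsg.Agent.Lib.HalfFixed.Main
import Cfsg.Agent.Lib.Coprime.Quotient
import Cfsg.Agent.Lib.Coprime.Sylow

/-!
A maximal solvable subgroup generated by two conjugates of `P` and the nilpotent groups it normalises.
-/

set_option autoImplicit false

namespace Cfsg.Agent.Lib.HalfFixed

open Subgroup Module
open scoped commutatorElement

universe u

/-- Two generating conjugates cannot have fixed spaces spanning an irreducible module. -/
theorem false_of_fixed_span {q : ℕ} [Fact q.Prime] {V : Type*} [AddCommGroup V] [Module (ZMod q) V]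
    [Finite V] [Nontrivial V] {A : Type*} [Group A] [Finite A] [Group.IsSolvable A]
    (ρ : Representation (ZMod q) A V) (hirr : IsIrredAct ρ) {a₀ : A} (ha₀ : ρ a₀ ≠ 1)
    {p : ℕ} (hp : p.Prime) (h5 : 5 ≤ p) (x a : A) (hxp : x ^ p = 1)
    (hgen : normalClosure ({x} : Set A) = ⊤)
    (hspan : ∀ v : V, ∃ w w', ρ x w = w ∧ ρ (a * x * a⁻¹) w' = w' ∧ v = w + w') : False := by
  classical
  have : FiniteDimensional (ZMod q) V := Module.Finite.of_finite
  let f : A →* (End (ZMod q) V)ˣ := Representation.asGroupHom ρ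
  let ρ' : Representation (ZMod q) f.range V := (Units.coeHom (End (ZMod q) V)).comp f.range.subtype
  have hinj : Function.Injective ρ' := fun s t h => Subtype.ext (Units.ext h)
  have hρ' : ∀ g, ρ' (f.rangeRestrict g) = ρ g := fun g => rfl
  have : Group.IsSolvable f.range := solvable_of_surjective f.rangeRestrict_surjective
  have : Finite f.range := Finite.of_surjective _ f.rangeRestrict_surjective
  have : Nontrivial f.range :=
    ⟨f.rangeRestrict a₀, 1, fun h => ha₀ (by rw [← hρ', h, map_one])⟩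
  have hgen' : normalClosure ({f.rangeRestrict x} : Set f.range) = ⊤ := by
    rw [← Set.image_singleton, ← map_normalClosure _ _ f.rangeRestrict_surjective, hgen,
      map_top_of_surjective _ f.rangeRestrict_surjective]
  have hirr' : IsIrredAct ρ' := fun U hU =>
    hirr U fun g v hv => hρ' g ▸ hU (f.rangeRestrict g) v hv
  have hlt := two_mul_fixed_lt q ρ' hinj hirr' hp h5 (f.rangeRestrict x)
    (by rw [← map_pow, hxp, map_one]) hgen'
  rw [hρ'] at hlt
  set C := LinearMap.ker (ρ x - 1) with hC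
  have hCmem : ∀ v, v ∈ C ↔ ρ x v = v := fun v => by
    rw [hC, LinearMap.mem_ker, LinearMap.sub_apply, sub_eq_zero, Module.End.one_apply]
  have hle : (⊤ : Submodule (ZMod q) V) ≤ C ⊔ C.map (ρ a) := by
    intro v _
    obtain ⟨w, w', hw, hw', rfl⟩ := hspan v
    refine Submodule.add_mem_sup ((hCmem w).mpr hw) ⟨ρ a⁻¹ w', (hCmem _).mpr ?_, ?_⟩
    · calc ρ x (ρ a⁻¹ w') = ρ a⁻¹ (ρ (a * x * a⁻¹) w') := by
            rw [← rho_mul, ← rho_mul]; congr 2; group
        _ = ρ a⁻¹ w' := by rw [hw']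
    · rw [← rho_mul, mul_inv_cancel, map_one]; rfl
  have h1 := Submodule.finrank_mono hle
  rw [finrank_top] at h1
  have h2 := Submodule.finrank_sup_add_finrank_inf_eq C (C.map (ρ a))
  have h3 := Submodule.finrank_map_le (ρ a) C
  omega

variable {G : Type u} [Group G] [Finite G]

/-- Cardinality of a product of subgroups of coprime order, one normalising the other. -/
theorem exists_transversal_card {Q T R : Subgroup G} (hTQ : T ≤ normalizer (Q : Set G))
    (hRQ : R ≤ normalizer (Q : Set G))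
    (hQR : Q ⊓ R = ⊥) (hT : T ≤ Q ⊔ R) (hR : R ≤ Q ⊔ T) :
    Nat.card T = Nat.card R * Nat.card ↥(T ⊓ Q) := by
  classical
  have hdecT : ∀ t ∈ T, ∃ r ∈ R, t * r⁻¹ ∈ Q := fun t ht => by
    have h := hT ht
    rw [← SetLike.mem_coe, coe_mul_of_right_le_normalizer_left Q R hRQ] at h
    obtain ⟨c, hc, r, hr, rfl⟩ := Set.mem_mul.mp h
    exact ⟨r, hr, by simpa using hc⟩
  have hdecR : ∀ r : R, ∃ t : T, (t : G) * (r : G)⁻¹ ∈ Q := fun r => by
    have h := hR r.2
    rw [← SetLike.mem_coe, coe_mul_of_right_le_normalizer_left Q T hTQ] at h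
    obtain ⟨c, hc, t, ht, hr⟩ := Set.mem_mul.mp h
    refine ⟨⟨t, ht⟩, ?_⟩
    rw [← hr]
    simpa using Q.inv_mem hc
  choose t ht using hdecR
  let F : R × ↥(T ⊓ Q) → T := fun z => ⟨z.2.1 * (t z.1).1, T.mul_mem z.2.2.1 (t z.1).2⟩
  have hFQ : ∀ z : R × ↥(T ⊓ Q), (F z : G) * (z.1 : G)⁻¹ ∈ Q := fun z => by
    show z.2.1 * (t z.1).1 * (z.1 : G)⁻¹ ∈ Q
    rw [mul_assoc]; exact Q.mul_mem z.2.2.2 (ht z.1)
  have hF : Function.Bijective F := by
    refine ⟨fun z z' h => ?_, fun s => ?_⟩
    · have hr : z.1 = z'.1 := by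
        have hm : (z.1 : G) * (z'.1 : G)⁻¹ ∈ Q ⊓ R := by
          refine ⟨?_, R.mul_mem z.1.2 (R.inv_mem z'.1.2)⟩
          have h2 := Q.mul_mem (Q.inv_mem (hFQ z)) (hFQ z')
          rw [h] at h2
          simpa [mul_assoc] using h2
        rw [hQR, mem_bot, mul_inv_eq_one] at hm
        exact Subtype.ext hm
      obtain ⟨r, d⟩ := z; obtain ⟨r', d'⟩ := z'
      obtain rfl : r = r' := hr
      have := congrArg Subtype.val h
      simp only [F, mul_left_inj] at this
      rw [Subtype.ext this]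
    · obtain ⟨r, hr, hsr⟩ := hdecT s.1 s.2
      refine ⟨⟨⟨r, hr⟩, ⟨s.1 * ((t ⟨r, hr⟩).1)⁻¹, T.mul_mem s.2 (T.inv_mem (t _).2), ?_⟩⟩, ?_⟩
      · have := Q.mul_mem hsr (Q.inv_mem (ht ⟨r, hr⟩))
        simpa [mul_assoc] using this
      · exact Subtype.ext (inv_mul_cancel_right _ _)
  rw [← Nat.card_congr (Equiv.ofBijective F hF), Nat.card_prod]

variable {p : ℕ} [Fact p.Prime]

set_option maxHeartbeats 1000000 in
/-- The key step: `O_r(A)` centralises every `q`-group normalised by `A`. -/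
theorem le_centralizer_of_normalized (hp : 3 < p) {P A : Subgroup G} (hP : Nat.card P = p)
    (hA : Group.IsSolvable A) {a : G} (haA : a ∈ A)
    (hAgen : A = P ⊔ P.map (MulAut.conj a).toMonoidHom)
    (hmax : ∀ B : Subgroup G, A ≤ B → Group.IsSolvable ↥B →
      (∃ b ∈ B, B = P ⊔ P.map (MulAut.conj b).toMonoidHom) → B = A)
    {r q : ℕ} [Fact r.Prime] [Fact q.Prime] (hrq : r ≠ q)
    {R : Subgroup G} (hR : IsPGroup r R) (hRA : R ≤ A) (hAR : A ≤ normalizer (R : Set G)) :
    ∀ (n : ℕ) (Q : Subgroup G), Nat.card Q = n → IsPGroup q Q → A ≤ normalizer (Q : Set G) →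
      R ≤ centralizer (Q : Set G) := by
  intro n
  induction n using Nat.strong_induction_on with
  | _ n ih => ?_
  intro Q hn hQ hAQ
  classical
  by_contra hcen
  have hsmall : ∀ L : Subgroup G, L ≤ Q → L ≠ Q → A ≤ normalizer (L : Set G) →
      R ≤ centralizer (L : Set G) := by
    intro L hLQ hne hAL
    refine ih (Nat.card L) ?_ L rfl (hQ.to_le hLQ) hAL
    rw [← hn]
    exact lt_of_le_of_ne (Nat.le_of_dvd Nat.card_pos (card_dvd_of_le hLQ))
      fun h => hne (eq_of_le_of_card_ge hLQ h.ge)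
  have hRQ : R ≤ normalizer (Q : Set G) := hRA.trans hAQ
  have hQR : Q ⊓ R = ⊥ := by
    obtain ⟨i, hi⟩ := hQ.exists_card_eq
    obtain ⟨j, hj⟩ := hR.exists_card_eq
    refine inf_eq_bot_of_coprime ?_
    rw [hi, hj]
    exact Nat.Coprime.pow i j ((Nat.coprime_primes Fact.out Fact.out).mpr (Ne.symm hrq))
  have hcop : (Nat.card R).Coprime (Nat.card Q) := by
    obtain ⟨i, hi⟩ := hQ.exists_card_eq
    obtain ⟨j, hj⟩ := hR.exists_card_eq
    rw [hi, hj]
    exact Nat.Coprime.pow j i ((Nat.coprime_primes Fact.out Fact.out).mpr hrq)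
  -- the maximal proper invariant subgroup
  set C := Q ⊓ centralizer (R : Set G) with hC
  have hAC : A ≤ normalizer (C : Set G) := Coprime.le_normalizer_inf_centralizer hAQ hAR
  have hCne : C ≠ Q := fun h => hcen fun s hs c hc => ((h.symm ▸ hc : c ∈ C).2 s hs).symm
  have hbig : ∀ L : Subgroup G, L ≤ Q → A ≤ normalizer (L : Set G) → ¬ L ≤ C → L = Q := by
    intro L hLQ hAL hLC
    by_contra hne
    exact hLC fun c hc => ⟨hLQ hc, fun s hs => (hsmall L hLQ hne hAL hs c hc).symm⟩
  have hcomm : ⁅Q, R⁆ = Q := by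
    refine hbig _ (Coprime.commutator_le_of_le_normalizer hRQ)
      (Coprime.le_normalizer_commutator hAQ hAR) fun hle => hcen ?_
    have h2 := Coprime.commutator_commutator_eq hRQ
      (hcop.coprime_dvd_right (card_dvd_of_le (Coprime.commutator_le_of_le_normalizer hRQ)))
    have h3 : ⁅⁅Q, R⁆, R⁆ = ⊥ := commutator_eq_bot_iff_le_centralizer.mpr (hle.trans inf_le_right)
    rw [h2, commutator_comm] at h3
    exact commutator_eq_bot_iff_le_centralizer.mp h3
  have hQC : Q ≤ normalizer (C : Set G) := by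
    have hinv : A ≤ normalizer ((Q ⊓ normalizer (C : Set G) : Subgroup G) : Set G) := by
      intro g hg
      rw [mem_normalizer_iff]
      intro s
      constructor
      · rintro ⟨h1, h2⟩
        refine ⟨(mem_normalizer_iff.mp (hAQ hg) s).mp h1, ?_⟩
        exact (normalizer (C : Set G)).mul_mem ((normalizer (C : Set G)).mul_mem (hAC hg) h2) ((normalizer (C : Set G)).inv_mem (hAC hg))
      · rintro ⟨h1, h2⟩
        refine ⟨(mem_normalizer_iff.mp (hAQ hg) s).mpr h1, ?_⟩
        have := (normalizer (C : Set G)).mul_mem ((normalizer (C : Set G)).mul_mem ((normalizer (C : Set G)).inv_mem (hAC hg)) h2) (hAC hg)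
        simpa [mul_assoc] using this
    by_contra hle
    have hnot : ¬ Q ⊓ normalizer (C : Set G) ≤ C := by
      intro h
      have hCQ : C.subgroupOf Q < ⊤ := lt_top_iff_ne_top.mpr fun h' =>
        hCne (le_antisymm inf_le_left (subgroupOf_eq_top.mp h'))
      have := hQ.isNilpotent
      obtain ⟨s, hs, hsC⟩ := SetLike.exists_of_lt
        (Group.normalizerCondition_of_isNilpotent (C.subgroupOf Q) hCQ)
      apply hsC
      rw [mem_subgroupOf]
      refine h ⟨s.2, ?_⟩
      refine mem_normalizer_iff.mpr ?_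
      rw [mem_normalizer_iff] at hs
      intro c
      constructor
      · intro hc; simpa [mem_subgroupOf] using (hs ⟨c, hc.1⟩).mp (mem_subgroupOf.mpr hc)
      · intro hc
        have hcQ : c ∈ Q := by
          have := Q.mul_mem (Q.mul_mem (Q.inv_mem s.2) hc.1) s.2
          simpa [mul_assoc] using this
        simpa [mem_subgroupOf] using (hs ⟨c, hcQ⟩).mpr (mem_subgroupOf.mpr hc)
    exact hle (inf_eq_left.mp (hbig _ inf_le_left hinv hnot))
  let CQ : Subgroup Q := C.subgroupOf Q
  have hCQn : CQ.Normal := normal_subgroupOf_of_le_normalizer hQC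
  -- the action of `A` on `Q / C`
  let cnj : A → MulAut Q := fun g =>
    { toFun := fun s => ⟨(g : G) * s * (g : G)⁻¹, (mem_normalizer_iff.mp (hAQ g.2) s).mp s.2⟩
      invFun := fun s => ⟨(g : G)⁻¹ * s * g, by
        simpa using (mem_normalizer_iff.mp (hAQ (inv_mem g.2)) s).mp s.2⟩
      left_inv := fun s => Subtype.ext (by simp [mul_assoc])
      right_inv := fun s => Subtype.ext (by simp [mul_assoc])
      map_mul' := fun s t => Subtype.ext (by simp [mul_assoc]) }
  have hcnj : ∀ g : A, CQ ≤ CQ.comap (cnj g).toMonoidHom := fun g s hs => by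
    rw [mem_comap]
    exact mem_subgroupOf.mpr ((mem_normalizer_iff.mp (hAC g.2) s).mp (mem_subgroupOf.mp hs))
  let act : A → (Q ⧸ CQ) →* (Q ⧸ CQ) := fun g => QuotientGroup.map CQ CQ (cnj g).toMonoidHom (hcnj g)
  have hact : ∀ g (s : Q), act g (s : Q ⧸ CQ) = ((cnj g s : Q) : Q ⧸ CQ) := fun _ _ => rfl
  have hact1 : ∀ s, act 1 s = s := fun s => by
    induction s using QuotientGroup.induction_on with
    | _ s => rw [hact]; congr 1; exact Subtype.ext (by simp [cnj])
  have hactmul : ∀ g h s, act (g * h) s = act g (act h s) := fun g h s => by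
    induction s using QuotientGroup.induction_on with
    | _ s => rw [hact, hact, hact]; congr 1; exact Subtype.ext (by simp [cnj, mul_assoc])
  have hirrM : ∀ S : Subgroup (Q ⧸ CQ), (∀ g, ∀ s ∈ S, act g s ∈ S) → S = ⊥ ∨ S = ⊤ := by
    intro S hS
    let L : Subgroup G := (S.comap (QuotientGroup.mk' CQ)).map Q.subtype
    have hAL : A ≤ normalizer (L : Set G) := by
      refine Coprime.le_normalizer_of_conj_mem fun g hg s hs => ?_
      obtain ⟨t, ht, rfl⟩ := hs
      exact ⟨cnj ⟨g, hg⟩ t, hS ⟨g, hg⟩ _ ht, rfl⟩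
    by_cases hL : L ≤ C
    · left
      refine (Subgroup.eq_bot_iff_forall _).mpr fun s hs => ?_
      induction s using QuotientGroup.induction_on with
      | _ t => exact (QuotientGroup.eq_one_iff t).mpr (mem_subgroupOf.mpr (hL ⟨t, hs, rfl⟩))
    · right
      refine eq_top_iff.mpr fun s _ => ?_
      induction s using QuotientGroup.induction_on with
      | _ t =>
        have htL : (t : G) ∈ L := by rw [hbig L (map_subtype_le _) hAL hL]; exact t.2
        obtain ⟨t', ht', htt⟩ := htL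
        exact Subtype.ext htt ▸ ht'
  have hMne : Nontrivial (Q ⧸ CQ) := QuotientGroup.nontrivial_iff.mpr fun h =>
    hCne (le_antisymm inf_le_left (subgroupOf_eq_top.mp h))
  have hMp : IsPGroup q (Q ⧸ CQ) := hQ.to_quotient CQ
  have hMcomm : ∀ s t : Q ⧸ CQ, s * t = t * s := by
    have hnil := hMp.isNilpotent
    rcases hirrM (_root_.commutator (Q ⧸ CQ)) (fun g s hs => by
      have : (_root_.commutator (Q ⧸ CQ)).map (act g) ≤ _root_.commutator (Q ⧸ CQ) := by
        rw [_root_.commutator_def, map_commutator]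
        exact commutator_mono le_top le_top
      exact this ⟨s, hs, rfl⟩) with h | h
    · intro s t
      have : ⁅s, t⁆ ∈ _root_.commutator (Q ⧸ CQ) := commutator_mem_commutator (mem_top s) (mem_top t)
      rw [h, mem_bot] at this
      exact commutatorElement_eq_one_iff_mul_comm.mp this
    · have := IsSolvable.commutator_lt_top_of_nontrivial (Q ⧸ CQ)
      exact absurd h this.ne
  letI instM : CommGroup (Q ⧸ CQ) := { (inferInstance : Group (Q ⧸ CQ)) with mul_comm := hMcomm }
  have hexp : ∀ s : Q ⧸ CQ, s ^ q = 1 := by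
    rcases hirrM (powMonoidHom q).ker (fun g s hs => by
      rw [MonoidHom.mem_ker, powMonoidHom_apply] at hs ⊢
      rw [← map_pow, hs, map_one]) with h | h
    · exfalso
      obtain ⟨e, he⟩ := hMp.exists_card_eq
      have hne1 : Nat.card (Q ⧸ CQ) ≠ 1 := (Finite.one_lt_card (α := Q ⧸ CQ)).ne'
      obtain ⟨s, hs⟩ := exists_prime_orderOf_dvd_card' (G := Q ⧸ CQ) q (by
        rw [he] at hne1 ⊢
        exact dvd_pow_self q (fun h0 => hne1 (by rw [h0, pow_zero])))
      have : s ∈ (powMonoidHom q).ker := MonoidHom.mem_ker.mpr (by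
        rw [powMonoidHom_apply, ← hs]; exact pow_orderOf_eq_one s)
      rw [h, mem_bot] at this
      rw [this, orderOf_one] at hs
      exact (Fact.out : q.Prime).ne_one hs.symm
    · exact fun s => MonoidHom.mem_ker.mp (h ▸ mem_top s : s ∈ (powMonoidHom q).ker)
  let M := Additive (Q ⧸ CQ)
  letI modM : Module (ZMod q) M := AddCommGroup.zmodModule (n := q) fun s => hexp s.toMul
  let ρ : Representation (ZMod q) A M :=
    { toFun := fun g => ((act g).toAdditive).toZModLinearMap q
      map_one' := LinearMap.ext fun s => hact1 s.toMul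
      map_mul' := fun g h => LinearMap.ext fun s => hactmul g h s.toMul }
  have hρ : ∀ g (s : Q), ρ g (Additive.ofMul (s : Q ⧸ CQ)) = Additive.ofMul ((cnj g s : Q) : Q ⧸ CQ) :=
    fun _ _ => rfl
  have hirr : IsIrredAct ρ := fun U hU => by
    rcases hirrM (AddSubgroup.toSubgroup' U.toAddSubgroup) (fun g s hs => hU g _ hs) with h | h
    · left
      refine (Submodule.eq_bot_iff U).mpr fun v hv => ?_
      have h1 : v.toMul ∈ (⊥ : Subgroup (Q ⧸ CQ)) := h ▸ hv
      exact mem_bot.mp h1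
    · right
      refine eq_top_iff.mpr fun v _ => ?_
      have h1 : v.toMul ∈ AddSubgroup.toSubgroup' U.toAddSubgroup := h ▸ mem_top _
      exact h1
  have hR0 : ∃ g : A, ρ g ≠ 1 := by
    by_contra h
    push Not at h
    apply hcen
    have hRC : ⁅Q, R⁆ ≤ C := commutator_le.mpr fun s hs g hg => by
      have h1 := hρ ⟨g, hRA hg⟩ ⟨s, hs⟩
      rw [h, Module.End.one_apply, Additive.ofMul.injective.eq_iff, QuotientGroup.eq,
        mem_subgroupOf] at h1
      have h2 : s⁻¹ * (g * s * g⁻¹) ∈ C := h1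
      have h3 := (mem_normalizer_iff.mp (hQC hs) _).mp h2
      rw [commutatorElement_def]
      have h4 := C.inv_mem h3
      simpa [mul_assoc] using h4
    rw [hcomm] at hRC
    exact absurd (le_antisymm inf_le_left hRC) hCne
  obtain ⟨g₀, hg₀⟩ := hR0
  -- the generators
  have hpp : p.Prime := Fact.out
  have : Nontrivial P := Finite.one_lt_card_iff_nontrivial.mp (hP ▸ hpp.one_lt)
  obtain ⟨⟨x, hxP⟩, hx1⟩ := exists_ne (1 : P)
  have hPx : P = zpowers x := by
    refine le_antisymm (fun g hg => ?_) (zpowers_le.mpr hxP)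
    obtain ⟨i, hi⟩ := ((zpowers_eq_top_of_prime_card hP hx1).symm ▸ mem_top (⟨g, hg⟩ : P) :
      (⟨g, hg⟩ : P) ∈ zpowers (⟨x, hxP⟩ : P))
    exact ⟨i, congrArg Subtype.val hi⟩
  have hxA : x ∈ A := by rw [hAgen]; exact mem_sup_left hxP
  let x' : A := ⟨x, hxA⟩
  let a' : A := ⟨a, haA⟩
  have hxp : x' ^ p = 1 := by
    have h1 : (⟨x, hxP⟩ : P) ^ Nat.card P = 1 := pow_card_eq_one'
    rw [hP] at h1
    exact Subtype.ext (congrArg Subtype.val h1 :)
  have hgen : normalClosure ({x'} : Set A) = ⊤ := by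
    have hle : A ≤ (normalClosure ({x'} : Set A)).map A.subtype := by
      conv_lhs => rw [hAgen, hPx, MonoidHom.map_zpowers]
      refine sup_le (zpowers_le.mpr ⟨x', subset_normalClosure rfl, rfl⟩)
        (zpowers_le.mpr ⟨a' * x' * a'⁻¹,
          (inferInstance : (normalClosure ({x'} : Set A)).Normal).conj_mem _ (subset_normalClosure rfl) a', rfl⟩)
    refine eq_top_iff.mpr fun g _ => ?_
    obtain ⟨g', hg', hgg⟩ := hle g.2
    exact Subtype.ext hgg ▸ hg'
  refine false_of_fixed_span ρ hirr hg₀ hpp (by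
    rcases Nat.lt_or_ge p 5 with h | h
    · have : p = 4 := by omega
      subst this; norm_num at hpp
    · exact h) x' a' hxp hgen ?_
  -- the spanning property
  intro w
  obtain ⟨⟨v, hv⟩, rfl⟩ : ∃ s : Q, Additive.ofMul (s : Q ⧸ CQ) = w :=
    let ⟨s, hs⟩ := QuotientGroup.mk_surjective w.toMul; ⟨s, hs⟩
  let B : Subgroup G := P ⊔ P.map (MulAut.conj (v * a)).toMonoidHom
  have hBH : B ≤ A ⊔ Q := by
    refine sup_le ((hAgen ▸ le_sup_left).trans le_sup_left) ?_
    rintro _ ⟨s, hs, rfl⟩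
    have hva : v * a ∈ A ⊔ Q := mul_mem (mem_sup_right hv) (mem_sup_left haA)
    exact mul_mem (mul_mem hva (mem_sup_left (hAgen ▸ mem_sup_left hs))) (inv_mem hva)
  have hHsol : Group.IsSolvable ↥(A ⊔ Q) := by
    have hnQ : (Q.subgroupOf (A ⊔ Q)).Normal :=
      normal_subgroupOf_of_le_normalizer (sup_le hAQ le_normalizer)
    have hQs : Group.IsSolvable (Q.subgroupOf (A ⊔ Q)) := by
      have := hQ.isNilpotent
      exact solvable_of_surjective
        (f := (subgroupOfEquivOfLe (le_sup_right : Q ≤ A ⊔ Q)).symm.toMonoidHom) (MulEquiv.surjective _)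
    let π : A →* ↥(A ⊔ Q) ⧸ Q.subgroupOf (A ⊔ Q) :=
      (QuotientGroup.mk' _).comp (Subgroup.inclusion le_sup_left)
    have hπ : Function.Surjective π := by
      intro z
      induction z using QuotientGroup.induction_on with
      | _ z =>
        obtain ⟨z, hz⟩ := z
        have h := hz
        rw [← SetLike.mem_coe, coe_mul_of_left_le_normalizer_right A Q hAQ] at h
        obtain ⟨g, hg, s, hs, rfl⟩ := Set.mem_mul.mp h
        refine ⟨⟨g, hg⟩, (QuotientGroup.eq).mpr ?_⟩
        rw [mem_subgroupOf]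
        simpa using hs
    have := solvable_of_surjective (f := π) hπ
    exact solvable_of_ker_le_range (Q.subgroupOf (A ⊔ Q)).subtype (QuotientGroup.mk' (Q.subgroupOf (A ⊔ Q)))
      (by rw [QuotientGroup.ker_mk', range_subtype])
  have hBne : B ≠ A ⊔ Q := by
    intro h
    have hb : v * a ∈ B := h ▸ mul_mem (mem_sup_right hv) (mem_sup_left haA)
    have hBA := hmax B (h ▸ le_sup_left) (h.symm ▸ hHsol) ⟨v * a, hb, rfl⟩
    have hQA : Q ≤ A := by rw [← hBA, h]; exact le_sup_right
    apply hcen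
    have h1 : ⁅R, Q⁆ ≤ Q ⊓ R := by
      refine le_inf ?_ ?_
      · rw [commutator_comm]; exact Coprime.commutator_le_of_le_normalizer hRQ
      · exact Coprime.commutator_le_of_le_normalizer (hQA.trans hAR)
    rw [hQR, le_bot_iff] at h1
    exact commutator_eq_bot_iff_le_centralizer.mp h1
  have hBQ : B ≤ normalizer (Q : Set G) := hBH.trans (sup_le hAQ le_normalizer)
  have hAB : A ≤ Q ⊔ B := by
    conv_lhs => rw [hAgen, hPx, MonoidHom.map_zpowers]
    refine sup_le (zpowers_le.mpr (mem_sup_right (mem_sup_left hxP))) (zpowers_le.mpr ?_)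
    have h1 : (v * a) * x * (v * a)⁻¹ ∈ B := mem_sup_right ⟨x, hxP, rfl⟩
    have : MulAut.conj a x = v⁻¹ * ((v * a) * x * (v * a)⁻¹) * v := by simp [mul_assoc]
    show MulAut.conj a x ∈ _
    rw [this]
    exact mul_mem (mul_mem (mem_sup_left (inv_mem hv)) (mem_sup_right h1)) (mem_sup_left hv)
  let H' := Q ⊔ R
  have hH'norm : A ⊔ Q ≤ normalizer (H' : Set G) := by
    refine sup_le ((le_inf hAQ hAR).trans ?_) (le_trans le_sup_left le_normalizer)
    intro g hg
    exact normalizer_inf_normalizer_le_normalizer_sup Q R hg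
  let T := B ⊓ H'
  have hH'Q : H' ≤ normalizer (Q : Set G) := sup_le le_normalizer hRQ
  have hRT : R ≤ Q ⊔ T := by
    intro s hs
    have h := hAB (hRA hs)
    rw [← SetLike.mem_coe, coe_mul_of_right_le_normalizer_left Q B hBQ] at h
    obtain ⟨c, hc, b, hb, rfl⟩ := Set.mem_mul.mp h
    have hbH : b ∈ H' := by
      have := H'.mul_mem (H'.inv_mem (mem_sup_left hc)) (mem_sup_right hs : _ ∈ H')
      simpa using this
    exact mul_mem (mem_sup_left hc) (mem_sup_right ⟨hb, hbH⟩)
  set D := T ⊓ Q with hD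
  have hcardT : Nat.card T = Nat.card R * Nat.card D :=
    exists_transversal_card (inf_le_right.trans hH'Q) hRQ hQR inf_le_right hRT
  have hcardH : Nat.card H' = Nat.card R * Nat.card Q := by
    rw [exists_transversal_card (T := H') hH'Q hRQ hQR le_rfl
      (le_sup_right.trans le_sup_right), inf_eq_right.mpr (le_sup_left : Q ≤ H')]
  obtain ⟨j, hj⟩ := hR.exists_card_eq
  obtain ⟨i, hi⟩ := hQ.exists_card_eq
  have hrq' : r.Coprime q := (Nat.coprime_primes Fact.out Fact.out).mpr hrq
  have hRdvd : ¬ r ∣ (R.subgroupOf H').index := by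
    have h1 := card_mul_index (R.subgroupOf H')
    rw [Nat.card_congr (subgroupOfEquivOfLe (le_sup_right : R ≤ H')).toEquiv, hcardH] at h1
    rw [Nat.eq_of_mul_eq_mul_left Nat.card_pos h1, hi]
    intro hd
    exact hrq ((Nat.prime_dvd_prime_iff_eq Fact.out Fact.out).mp
      ((Fact.out : r.Prime).dvd_of_dvd_pow hd))
  let SR : Sylow r H' := (hR.of_equiv (subgroupOfEquivOfLe (le_sup_right : R ≤ H')).symm).toSylow hRdvd
  obtain ⟨ST⟩ : Nonempty (Sylow r T) := inferInstance
  let S : Subgroup G := (ST : Subgroup T).map T.subtype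
  have hST : S ≤ T := map_subtype_le _
  have hSH : S ≤ H' := hST.trans inf_le_right
  have hScard : Nat.card R ≤ Nat.card S := by
    refine Nat.le_of_dvd Nat.card_pos ?_
    rw [hj, card_map_of_injective (subtype_injective _)]
    refine ST.pow_dvd_card_of_pow_dvd_card ?_
    rw [hcardT, hj]
    exact dvd_mul_right _ _
  have hSr : IsPGroup r S := ST.2.map _
  obtain ⟨SH, hSH'⟩ := (hSr.of_equiv (subgroupOfEquivOfLe hSH).symm).exists_le_sylow
  obtain ⟨z, hz⟩ := MulAction.exists_smul_eq H' SR SH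
  obtain ⟨u, hu, ρ₀, hρ₀, huz⟩ : ∃ u ∈ Q, ∃ ρ₀ ∈ R, (z : G) = u * ρ₀ := by
    have h := z.2
    rw [← SetLike.mem_coe, coe_mul_of_right_le_normalizer_left Q R hRQ] at h
    obtain ⟨u, hu, ρ₀, hρ₀, h⟩ := Set.mem_mul.mp h
    exact ⟨u, hu, ρ₀, hρ₀, h.symm⟩
  have hSsub : ∀ s ∈ S, u⁻¹ * s * u ∈ R := by
    intro s hs
    have h1 : (⟨s, hSH hs⟩ : H') ∈ (SH : Subgroup H') := hSH' (mem_subgroupOf.mpr hs)
    rw [← hz, Sylow.coe_subgroup_smul, mem_pointwise_smul_iff_inv_smul_mem] at h1
    have h2 : (z : G)⁻¹ * s * (z : G) ∈ R := by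
      have := mem_subgroupOf.mp h1
      simpa [MulAut.smul_def] using this
    rw [huz] at h2
    have h3 := R.mul_mem (R.mul_mem hρ₀ h2) (R.inv_mem hρ₀)
    simpa [mul_assoc] using h3
  have hSeq : ∀ s ∈ R, u * s * u⁻¹ ∈ S := by
    let φ : S → R := fun s => ⟨u⁻¹ * s * u, hSsub s s.2⟩
    have hφinj : Function.Injective φ := fun s t h => by
      have := congrArg Subtype.val h
      simpa [φ] using this
    have hφ : Function.Bijective φ := (Nat.bijective_iff_injective_and_card φ).mpr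
      ⟨hφinj, le_antisymm (Nat.card_le_card_of_injective φ hφinj) hScard⟩
    intro s hs
    obtain ⟨t, ht⟩ := hφ.2 ⟨s, hs⟩
    have := congrArg Subtype.val ht
    have h2 : u * s * u⁻¹ = t := by
      have h1 : u⁻¹ * (t : G) * u = s := this
      rw [← h1]; group
    rw [h2]; exact t.2
  have hDC : D ≤ C := by
    by_contra hDC
    let L := D ⊔ C
    have hBA : B ≤ normalizer (D : Set G) := by
      intro b hb
      rw [mem_normalizer_iff]
      intro s
      constructor
      · rintro ⟨⟨h1, h2⟩, h3⟩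
        exact ⟨⟨B.mul_mem (B.mul_mem hb h1) (B.inv_mem hb), (mem_normalizer_iff.mp (hH'norm (hBH hb)) s).mp h2⟩,
          (mem_normalizer_iff.mp (hBQ hb) s).mp h3⟩
      · rintro ⟨⟨h1, h2⟩, h3⟩
        refine ⟨⟨?_, (mem_normalizer_iff.mp (hH'norm (hBH hb)) s).mpr h2⟩,
          (mem_normalizer_iff.mp (hBQ hb) s).mpr h3⟩
        have := B.mul_mem (B.mul_mem (B.inv_mem hb) h1) hb
        simpa [mul_assoc] using this
    have hLQ : L ≤ Q := sup_le inf_le_right inf_le_left
    have hconjQ : ∀ c ∈ Q, ∀ s ∈ L, c * s * c⁻¹ ∈ L := by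
      intro c hc s hs
      have h1 : ((⟨c, hc⟩ * ⟨s, hLQ hs⟩ * ⟨c, hc⟩⁻¹ : Q) : Q ⧸ CQ) = ((⟨s, hLQ hs⟩ : Q) : Q ⧸ CQ) := by
        rw [QuotientGroup.mk_mul, QuotientGroup.mk_mul, QuotientGroup.mk_inv, hMcomm (↑(⟨c, hc⟩ : Q)),
          mul_inv_cancel_right]
      rw [QuotientGroup.eq, mem_subgroupOf] at h1
      have h2 : (c * s * c⁻¹)⁻¹ * s ∈ L := mem_sup_right h1
      have h3 := L.mul_mem hs (L.inv_mem h2)
      simpa [mul_assoc] using h3
    have hAL : A ≤ normalizer (L : Set G) := by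
      refine Coprime.le_normalizer_of_conj_mem fun g hg s hs => ?_
      have h := hAB hg
      rw [← SetLike.mem_coe, coe_mul_of_right_le_normalizer_left Q B hBQ] at h
      obtain ⟨c, hc, b, hb, rfl⟩ := Set.mem_mul.mp h
      have hbC : b ∈ normalizer (C : Set G) := (hBH.trans (sup_le hAC hQC)) hb
      have hbs : b * s * b⁻¹ ∈ L :=
        (mem_normalizer_iff.mp (normalizer_inf_normalizer_le_normalizer_sup D C ⟨hBA hb, hbC⟩) s).mp hs
      have := hconjQ c hc _ hbs
      simpa [mul_assoc] using this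
    have hL : L = Q := hbig L hLQ hAL fun h => hDC (le_sup_left.trans h)
    apply hBne
    refine le_antisymm hBH ?_
    suffices hQB : Q ≤ B from sup_le (hAB.trans (sup_le hQB le_rfl)) hQB
    suffices hQD : Q ≤ D from fun s hs => (hQD hs).1.1
    have hQD' : Q ≤ D.map (MulAut.conj u⁻¹).toMonoidHom := by
      conv_lhs => rw [← hcomm]
      rw [commutator_le]
      intro c hc s hs
      -- move to the conjugate `S`
      have key : ∀ c ∈ Q, ∀ t ∈ S, ⁅c, t⁆ ∈ D := by
        intro c hc t ht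
        rw [← hL, ← SetLike.mem_coe, coe_mul_of_left_le_normalizer_right D C
          (inf_le_right.trans hQC)] at hc
        obtain ⟨d, hd, c', hc', rfl⟩ := Set.mem_mul.mp hc
        have hct : t * c' * t⁻¹ = c' := by
          have h1 := hSsub t ht
          have h2 : u⁻¹ * c' * u ∈ C := by
            simpa using (mem_normalizer_iff.mp (inv_mem (hQC hu)) c').mp hc'
          have h3 := h2.2 _ h1
          have h4 : t * c' = c' * t := by
            have := congrArg (fun w => u * w * u⁻¹) h3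
            simpa [mul_assoc] using this
          rw [h4, mul_inv_cancel_right]
        have htB : t ∈ B := (hST ht).1
        have h5 : ⁅d * c', t⁆ = d * (t * d⁻¹ * t⁻¹) := by
          rw [commutatorElement_def]
          have h6 : c' * t * c'⁻¹ = t := by
            rw [mul_inv_eq_iff_eq_mul] at hct ⊢
            exact hct.symm
          calc d * c' * t * (d * c')⁻¹ * t⁻¹ = d * (c' * t * c'⁻¹) * d⁻¹ * t⁻¹ := by group
            _ = _ := by rw [h6]; group
        rw [h5]
        exact D.mul_mem hd ((mem_normalizer_iff.mp (hBA htB) _).mp (D.inv_mem hd))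
      have h7 := key (u * c * u⁻¹) (mul_mem (mul_mem hu hc) (inv_mem hu)) _ (hSeq s hs)
      exact ⟨_, h7, by simp [commutatorElement_def, mul_assoc]⟩
    intro c hc
    obtain ⟨d, hd, hdc⟩ := hQD' (mul_mem (mul_mem (inv_mem hu) hc) hu)
    have : d = c := by simpa [mul_assoc] using hdc
    exact this ▸ hd
  have hDS : ∀ d ∈ D, ∀ t ∈ S, d * t = t * d := by
    intro d hd t ht
    have hdu : u⁻¹ * d * u ∈ C := by
      simpa using (mem_normalizer_iff.mp (inv_mem (hQC hu)) d).mp (hDC hd)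
    have h3 := hdu.2 _ (hSsub t ht)
    have := congrArg (fun w => u * w * u⁻¹) h3
    simpa [mul_assoc] using this.symm
  have hDST : D ⊔ S = T := by
    refine eq_of_le_of_card_ge (sup_le inf_le_left hST) (Nat.le_of_dvd Nat.card_pos ?_)
    have hSdvd : Nat.card R ∣ Nat.card S := by
      obtain ⟨m, hm⟩ := hSr.exists_card_eq
      rw [hj, hm] at hScard ⊢
      exact pow_dvd_pow r ((Nat.pow_le_pow_iff_right (Fact.out : r.Prime).one_lt).mp hScard)
    rw [hcardT]
    exact Nat.Coprime.mul_dvd_of_dvd_of_dvd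
      (hcop.coprime_dvd_right (card_dvd_of_le inf_le_right))
      (hSdvd.trans (card_dvd_of_le le_sup_right)) (card_dvd_of_le le_sup_left)
  have hBR : ∀ b ∈ B, u⁻¹ * b * u ∈ normalizer (R : Set G) := by
    intro b hb
    have hfwd : ∀ s ∈ R, (u⁻¹ * b * u) * s * (u⁻¹ * b * u)⁻¹ ∈ R := by
      intro s hs
      have htS := hSeq s hs
      set t := b * (u * s * u⁻¹) * b⁻¹ with ht
      have htT : t ∈ T :=
        ⟨B.mul_mem (B.mul_mem hb (hST htS).1) (B.inv_mem hb),
          (mem_normalizer_iff.mp (hH'norm (hBH hb)) _).mp (hSH htS)⟩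
      rw [← hDST, ← SetLike.mem_coe, coe_mul_of_right_le_normalizer_left D S
        (fun e he => mem_normalizer_iff.mpr fun d => ⟨fun hd => by
          rw [← hDS d hd e he, mul_inv_cancel_right]; exact hd, fun hd => by
          have h := hDS _ hd e he
          rw [inv_mul_cancel_right] at h
          have : e * d * e⁻¹ = d := (mul_left_cancel h).symm
          rwa [this] at hd⟩)] at htT
      obtain ⟨d, hd, s', hs', hds⟩ := Set.mem_mul.mp htT
      have hord : t ^ Nat.card R = 1 := by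
        rw [ht, conj_pow, conj_pow, show s ^ Nat.card R = 1 from
          congrArg Subtype.val (pow_card_eq_one' (x := (⟨s, hs⟩ : R)))]
        simp
      have hs'1 : s' ^ Nat.card R = 1 := by
        have h1 : (⟨u⁻¹ * s' * u, hSsub s' hs'⟩ : R) ^ Nat.card R = 1 := pow_card_eq_one'
        have h2 : (u⁻¹ * s' * u) ^ Nat.card R = 1 := congrArg Subtype.val h1
        rw [show u⁻¹ * s' * u = u⁻¹ * s' * u⁻¹⁻¹ by rw [inv_inv], conj_pow, inv_inv] at h2
        have := congrArg (fun w => u * w * u⁻¹) h2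
        simpa [mul_assoc] using this
      have hd1 : d = 1 := by
        rw [← hds, (show Commute d s' from hDS d hd s' hs').mul_pow, hs'1, mul_one] at hord
        have h1 : orderOf (⟨d, hd.2⟩ : Q) ∣ Nat.card R := by
          rw [orderOf_dvd_iff_pow_eq_one]; exact Subtype.ext hord
        have h2 := Nat.eq_one_of_dvd_coprimes hcop h1 (orderOf_dvd_natCard _)
        rw [orderOf_eq_one_iff] at h2
        exact congrArg Subtype.val h2
      rw [hd1, one_mul] at hds
      have h6 := hSsub s' hs'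
      rw [hds, ht] at h6
      simpa [mul_assoc] using h6
    rw [mem_normalizer_iff]
    intro s
    refine ⟨fun hs => hfwd s hs, fun hs => ?_⟩
    let F : R → R := fun e => ⟨_, hfwd e e.2⟩
    have hF : Function.Injective F := fun e e' h => Subtype.ext (by
      simpa [F] using congrArg Subtype.val h)
    obtain ⟨e, he⟩ := Finite.surjective_of_injective hF ⟨_, hs⟩
    have := congrArg Subtype.val he
    simp only [F, mul_left_inj, mul_right_inj] at this
    exact this ▸ e.2
  have hNRC : ∀ c ∈ Q, c ∈ normalizer (R : Set G) → c ∈ C := by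
    intro c hc hcR
    refine ⟨hc, fun s hs => ?_⟩
    have h1 : c * s * c⁻¹ * s⁻¹ ∈ Q ⊓ R := by
      refine ⟨?_, R.mul_mem ((mem_normalizer_iff.mp hcR s).mp hs) (R.inv_mem hs)⟩
      rw [mul_assoc c, mul_assoc c]
      exact Q.mul_mem hc ((mem_normalizer_iff.mp (hRQ hs) c⁻¹).mp (Q.inv_mem hc))
    rw [hQR, mem_bot, mul_inv_eq_one, mul_inv_eq_iff_eq_mul] at h1
    exact h1.symm
  have hfixed : ∀ (g : A) (w : G) (hw : w ∈ Q),
      w⁻¹ * g * w ∈ normalizer (R : Set G) → ρ g (Additive.ofMul ((⟨w, hw⟩ : Q) : Q ⧸ CQ)) =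
        Additive.ofMul ((⟨w, hw⟩ : Q) : Q ⧸ CQ) := by
    intro g w hw hn
    rw [hρ]
    refine congrArg Additive.ofMul ((QuotientGroup.eq).mpr ?_)
    rw [mem_subgroupOf]
    have hm : w⁻¹ * ((g : G) * w * (g : G)⁻¹) ∈ C := by
      refine hNRC _ (Q.mul_mem (Q.inv_mem hw) ((mem_normalizer_iff.mp (hAQ g.2) w).mp hw)) ?_
      rw [← mul_assoc, ← mul_assoc]
      exact (normalizer (R : Set G)).mul_mem hn ((normalizer (R : Set G)).inv_mem (hAR g.2))
    simpa [cnj, mul_assoc] using C.inv_mem hm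
  have hwQ : u⁻¹ * v ∈ Q := Q.mul_mem (Q.inv_mem hu) hv
  refine ⟨Additive.ofMul ((⟨u, hu⟩ : Q) : Q ⧸ CQ), Additive.ofMul ((⟨u⁻¹ * v, hwQ⟩ : Q) : Q ⧸ CQ),
    hfixed x' u hu (hBR x (mem_sup_left hxP)), hfixed (a' * x' * a'⁻¹) _ hwQ ?_, ?_⟩
  · have h := hBR _ (mem_sup_right ⟨x, hxP, rfl⟩ : MulAut.conj (v * a) x ∈ B)
    have h2 := (normalizer (R : Set G)).inv_mem h
    have h3 : (u⁻¹ * v)⁻¹⁻¹ * ((a : G) * x * a⁻¹) * (u⁻¹ * v)⁻¹ ∈ normalizer (R : Set G) := by
      simpa [mul_assoc] using h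
    -- conjugating back by the fixed element
    set w := u⁻¹ * v with hw
    have hm : w * ((a * x * a⁻¹) * w⁻¹ * (a * x * a⁻¹)⁻¹) ∈ C := by
      have hy : a * x * a⁻¹ ∈ A := A.mul_mem (A.mul_mem haA hxA) (A.inv_mem haA)
      refine hNRC _ (Q.mul_mem hwQ ((mem_normalizer_iff.mp (hAQ hy) _).mp (Q.inv_mem hwQ))) ?_
      have := (normalizer (R : Set G)).mul_mem h3 ((normalizer (R : Set G)).inv_mem (hAR hy))
      simpa [mul_assoc] using this
    have hm' := (mem_normalizer_iff.mp (hQC (Q.inv_mem hwQ)) _).mp hm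
    show w⁻¹ * (a * x * a⁻¹) * w ∈ normalizer (R : Set G)
    have hy : a * x * a⁻¹ ∈ A := A.mul_mem (A.mul_mem haA hxA) (A.inv_mem haA)
    have hCN : C ≤ normalizer (R : Set G) := fun c hc => by
      exact (centralizer_le_normalizer (R : Set G)) hc.2
    have := (normalizer (R : Set G)).mul_mem ((normalizer (R : Set G)).inv_mem (hCN hm')) (hAR hy)
    simpa [mul_assoc] using this
  · rw [← ofMul_mul, ← QuotientGroup.mk_mul]
    congr 2
    exact Subtype.ext (mul_inv_cancel_left u v).symm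

end Cfsg.Agent.Lib.HalfFixed
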