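import Mathlib

/-!
In a finite solvable transitive group, an element of odd prime order whose normal closure is the
whole group fixes at most a third of the points.
-/

set_option autoImplicit false

namespace Cfsg.Agent.Lib.HalfFixed

open MulAction Subgroup

universe u v

variable {G : Type u} [Group G]

/-- A nontrivially acting group with solvable structure has a normal subgroup acting as a
nontrivial commutative group. -/
theorem exists_commutative_acting [Group.IsSolvable G] (Ω : Type v) [MulAction G Ω]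
    (hnt : ∃ g : G, ∃ ω : Ω, g • ω ≠ ω) :
    ∃ M : Subgroup G, M.Normal ∧ (∀ a ∈ M, ∀ b ∈ M, ∀ ω : Ω, a • b • ω = b • a • ω) ∧
      ∃ a ∈ M, ∃ ω : Ω, a • ω ≠ ω := by
  classical
  obtain ⟨n, hn⟩ := (Group.isSolvable_def G).mp inferInstance
  have hex : ∃ k, ∀ a ∈ derivedSeries G k, ∀ ω : Ω, a • ω = ω :=
    ⟨n, fun a ha ω => by rw [hn, mem_bot] at ha; rw [ha, one_smul]⟩
  obtain ⟨k, hk, hmin⟩ : ∃ k, (∀ a ∈ derivedSeries G k, ∀ ω : Ω, a • ω = ω) ∧
      ∀ j < k, ¬ ∀ a ∈ derivedSeries G j, ∀ ω : Ω, a • ω = ω :=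
    ⟨Nat.find hex, Nat.find_spec hex, fun j hj => Nat.find_min hex hj⟩
  cases k with
  | zero =>
    obtain ⟨g, ω, h⟩ := hnt
    exact absurd (hk g (mem_top g) ω) h
  | succ k =>
    refine ⟨derivedSeries G k, derivedSeries_normal G k, fun a ha b hb ω => ?_, ?_⟩
    · have h1 : a * b * a⁻¹ * b⁻¹ ∈ derivedSeries G (k + 1) :=
        commutator_mem_commutator ha hb
      have h2 := hk _ h1 (b • a • ω)
      simp only [← mul_smul] at h2 ⊢
      rw [← h2]
      group
    · have := hmin k (Nat.lt_succ_self k)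
      push Not at this
      obtain ⟨a, ha, ω, h⟩ := this
      exact ⟨a, ha, ω, h⟩

/-- The transitive commutative normal subgroup case. -/
theorem three_mul_fixed_le_of_regular [Finite G] {p : ℕ} (hp : p.Prime) (hp2 : p ≠ 2)
    {Ω : Type v} [MulAction G Ω] [Finite Ω] (x : G) (hx : x ^ p = 1)
    (hmove : ∃ ω : Ω, x • ω ≠ ω)
    (M : Subgroup G) [M.Normal] (hcomm : ∀ a ∈ M, ∀ b ∈ M, ∀ ω : Ω, a • b • ω = b • a • ω)
    (htrans : ∀ ω ω' : Ω, ∃ a ∈ M, a • ω = ω') :
    3 * Nat.card ↥(fixedBy Ω x) ≤ Nat.card Ω := by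
  classical
  by_cases hω : (fixedBy Ω x).Nonempty
  swap
  · rw [Set.not_nonempty_iff_eq_empty.mp hω]; simp
  obtain ⟨ω₀, hω₀⟩ := hω
  rw [mem_fixedBy] at hω₀
  have hfree : ∀ a ∈ M, a • ω₀ = ω₀ → ∀ ω : Ω, a • ω = ω := by
    intro a ha h ω
    obtain ⟨b, hb, rfl⟩ := htrans ω₀ ω
    rw [hcomm a ha b hb, h]
  let M' : Subgroup (Equiv.Perm Ω) := M.map (MulAction.toPermHom G Ω)
  have hM' : ∀ s ∈ M', ∃ a ∈ M, s = MulAction.toPerm a := by
    rintro _ ⟨a, ha, rfl⟩; exact ⟨a, ha, rfl⟩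
  have hbij : Function.Bijective fun s : M' => (s : Equiv.Perm Ω) ω₀ := by
    constructor
    · rintro ⟨s, hs⟩ ⟨t, ht⟩ h
      obtain ⟨a, ha, rfl⟩ := hM' s hs
      obtain ⟨b, hb, rfl⟩ := hM' t ht
      simp only [MulAction.toPerm_apply] at h
      apply Subtype.ext
      ext ω
      have := hfree (b⁻¹ * a) (M.mul_mem (M.inv_mem hb) ha) (by rw [mul_smul, h, inv_smul_smul]) ω
      rw [mul_smul, inv_smul_eq_iff] at this
      simpa using this
    · intro ω
      obtain ⟨a, ha, rfl⟩ := htrans ω₀ ω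
      exact ⟨⟨_, a, ha, rfl⟩, rfl⟩
  let X : Equiv.Perm Ω := MulAction.toPermHom G Ω x
  have hX0 : X ω₀ = ω₀ := hω₀
  have hnorm : ∀ s ∈ M', X * s * X⁻¹ ∈ M' := by
    rintro _ ⟨a, ha, rfl⟩
    exact ⟨x * a * x⁻¹, ‹M.Normal›.conj_mem a ha x, by simp only [X, map_mul, map_inv]⟩
  let C : Subgroup (Equiv.Perm Ω) := M' ⊓ centralizer ({X} : Set (Equiv.Perm Ω))
  have hXinv : X⁻¹ ω₀ = ω₀ := by rw [Equiv.Perm.inv_def, Equiv.symm_apply_eq, hX0]
  have hfixC : ∀ s ∈ M', (X (s ω₀) = s ω₀ ↔ s ∈ C) := by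
    intro s hs
    constructor
    · intro h
      refine ⟨hs, mem_centralizer_singleton_iff.mpr ?_⟩
      have heq : (⟨_, hnorm s hs⟩ : M') = ⟨s, hs⟩ := hbij.1 (by
        show X (s (X⁻¹ ω₀)) = s ω₀
        rw [hXinv, h])
      have : X * s * X⁻¹ = s := congrArg Subtype.val heq
      calc s * X = X * s * X⁻¹ * X := by rw [this]
        _ = X * s := by group
    · rintro ⟨-, hc⟩
      have := congrArg (fun t : Equiv.Perm Ω => t ω₀) (mem_centralizer_singleton_iff.mp hc)
      simp only [Equiv.Perm.mul_apply, hX0] at this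
      exact this.symm
  have hcardC : Nat.card ↥(fixedBy Ω x) = Nat.card C := by
    refine (Nat.card_congr (Equiv.ofBijective (fun s : C => (⟨(s : Equiv.Perm Ω) ω₀, ?_⟩ : ↥(fixedBy Ω x))) ⟨?_, ?_⟩)).symm
    · exact (hfixC _ s.2.1).mpr s.2
    · intro s t h
      have := hbij.1 (a₁ := ⟨_, s.2.1⟩) (a₂ := ⟨_, t.2.1⟩) (congrArg Subtype.val h)
      exact Subtype.ext (congrArg Subtype.val this :)
    · rintro ⟨ω, hω⟩
      obtain ⟨⟨s, hs⟩, rfl⟩ := hbij.2 ω
      exact ⟨⟨s, (hfixC s hs).mp hω⟩, rfl⟩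
  have hcardM : Nat.card Ω = Nat.card M' := (Nat.card_congr (Equiv.ofBijective _ hbij)).symm
  have hne : ¬ M' ≤ C := by
    intro hle
    obtain ⟨ω, h⟩ := hmove
    obtain ⟨⟨s, hs⟩, rfl⟩ := hbij.2 ω
    exact h ((hfixC s hs).mpr (hle hs))
  have hidx : C.relIndex M' ≠ 2 := by
    intro h2
    apply hne
    intro s hs
    by_contra hsC
    have hcent : ∀ c ∈ C, X * c * X⁻¹ = c := by
      rintro c ⟨-, hc⟩
      rw [← mem_centralizer_singleton_iff.mp hc, mul_inv_cancel_right]
    set c := s⁻¹ * (X * s * X⁻¹) with hc_def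
    have hmem : c ∈ C := by
      have hs' : ¬ (⟨_, hnorm s hs⟩ : M') ∈ C.subgroupOf M' := by
        intro h
        apply hsC
        have h' := hcent _ (mem_subgroupOf.mp h)
        have : X * s * X⁻¹ = s := by
          have := congrArg (fun t => X⁻¹ * t * X) h'
          group at this ⊢
          exact this
        have h'' : (X * s * X⁻¹ : Equiv.Perm Ω) ∈ C := mem_subgroupOf.mp h
        rwa [this] at h''
      have := (mul_mem_iff_of_index_two (H := C.subgroupOf M') h2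
        (a := ⟨s⁻¹, M'.inv_mem hs⟩) (b := ⟨_, hnorm s hs⟩)).mpr
        ⟨fun h => absurd (mem_subgroupOf.mp h) (fun h' => hsC (by simpa using C.inv_mem h')),
          fun h => absurd h hs'⟩
      exact mem_subgroupOf.mp this
    have hcomm' : ∀ u ∈ M', ∀ w ∈ M', u * w = w * u := by
      intro u hu w hw
      obtain ⟨a, ha, rfl⟩ := hM' u hu
      obtain ⟨b, hb, rfl⟩ := hM' w hw
      ext ω
      simpa using hcomm a ha b hb ω
    have hconj : X * s * X⁻¹ = s * c := by rw [hc_def]; group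
    have hiter : ∀ i : ℕ, X ^ i * s * (X ^ i)⁻¹ = s * c ^ i := by
      intro i
      induction i with
      | zero => simp
      | succ i ih =>
        calc X ^ (i + 1) * s * (X ^ (i + 1))⁻¹ = X * (X ^ i * s * (X ^ i)⁻¹) * X⁻¹ := by
              rw [pow_succ']; group
          _ = (X * s * X⁻¹) * (X * c ^ i * X⁻¹) := by rw [ih]; group
          _ = s * c * c ^ i := by rw [hconj, hcent _ (C.pow_mem hmem i)]
          _ = s * c ^ (i + 1) := by rw [pow_succ', mul_assoc]
    have hcp : c ^ p = 1 := by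
      have hXp : X ^ p = 1 := by simp only [X, ← map_pow, hx, map_one]
      have := hiter p
      rw [hXp, inv_one, one_mul, mul_one] at this
      exact (left_eq_mul.mp this)
    have hc2 : c ^ 2 = 1 := by
      have hs2 : s ^ 2 ∈ C := by
        have := sq_mem_of_index_two (H := C.subgroupOf M') h2 ⟨s, hs⟩
        exact mem_subgroupOf.mp this
      have h3 := hcent _ hs2
      have h4 : (s * c) ^ 2 = s ^ 2 := by
        rw [← hconj, sq, sq]
        rw [sq] at h3
        calc X * s * X⁻¹ * (X * s * X⁻¹) = X * (s * s) * X⁻¹ := by group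
          _ = _ := h3
      rw [(Commute.mul_pow (hcomm' s hs c hmem.1) 2)] at h4
      exact (mul_eq_left.mp h4)
    have hgcd := (pow_gcd_eq_one (a := c)).mpr ⟨hcp, hc2⟩
    rw [(Nat.coprime_primes hp Nat.prime_two).mpr hp2, pow_one] at hgcd
    apply hsC
    refine ⟨hs, mem_centralizer_singleton_iff.mpr ?_⟩
    rw [hgcd, mul_one] at hconj
    calc s * X = X * s * X⁻¹ * X := by rw [hconj]
      _ = X * s := by group
  have hne1 : C.relIndex M' ≠ 1 := fun h => hne (relIndex_eq_one.mp h)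
  have hpos : C.relIndex M' ≠ 0 := FiniteIndex.index_ne_zero
  rw [hcardC, hcardM, ← card_mul_index (C.subgroupOf M'),
    Nat.card_congr (subgroupOfEquivOfLe (inf_le_left : C ≤ M')).toEquiv]
  have : 3 ≤ C.relIndex M' := by omega
  rw [mul_comm]
  exact Nat.mul_le_mul_left _ this

/-- An element of odd prime order whose normal closure is a solvable transitive group fixes at most
a third of the points. -/
theorem three_mul_fixed_le [Finite G] [Group.IsSolvable G] {p : ℕ} (hp : p.Prime) (hp2 : p ≠ 2)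
    (x : G) (hx : x ^ p = 1) (hgen : normalClosure ({x} : Set G) = ⊤) :
    ∀ (n : ℕ) (Ω : Type v) [MulAction G Ω] [Finite Ω] [IsPretransitive G Ω],
      Nat.card Ω = n → 1 < n → 3 * Nat.card ↥(fixedBy Ω x) ≤ n := by
  intro n
  induction n using Nat.strong_induction_on with
  | _ n ih => ?_
  intro Ω _ _ _ hn h1
  classical
  have hnt : Nontrivial Ω := Finite.one_lt_card_iff_nontrivial.mp (hn ▸ h1)
  obtain ⟨ω₁, ω₂, h12⟩ := exists_pair_ne Ω
  have hmove : ∃ ω : Ω, x • ω ≠ ω := by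
    by_contra h
    push Not at h
    have hle : normalClosure ({x} : Set G) ≤ (MulAction.toPermHom G Ω).ker := by
      refine normalClosure_le_normal (Set.singleton_subset_iff.mpr (Equiv.ext h))
    obtain ⟨g, hg⟩ := exists_smul_eq G ω₁ ω₂
    have := hle (hgen.symm ▸ mem_top g)
    have h' := congrArg (fun s : Equiv.Perm Ω => s ω₁) (MonoidHom.mem_ker.mp this)
    simp [hg] at h'
    exact h12 h'.symm
  obtain ⟨M, hM, hcomm, hMnt⟩ :=
    exists_commutative_acting Ω ⟨x, hmove⟩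
  by_cases htrans : ∀ ω ω' : Ω, ∃ a ∈ M, a • ω = ω'
  · rw [← hn]; exact three_mul_fixed_le_of_regular hp hp2 x hx hmove M hcomm htrans
  let S : Setoid Ω :=
    { r := fun ω ω' => ∃ a ∈ M, a • ω = ω'
      iseqv := ⟨fun ω => ⟨1, M.one_mem, one_smul _ _⟩,
        fun ⟨a, ha, h⟩ => ⟨a⁻¹, M.inv_mem ha, by rw [← h, inv_smul_smul]⟩,
        fun ⟨a, ha, h⟩ ⟨b, hb, h'⟩ => ⟨b * a, M.mul_mem hb ha, by rw [mul_smul, h, h']⟩⟩ }
  have hcompat : ∀ g : G, ∀ ω ω' : Ω, S.r ω ω' → S.r (g • ω) (g • ω') := by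
    rintro g ω ω' ⟨a, ha, rfl⟩
    exact ⟨g * a * g⁻¹, hM.conj_mem a ha g, by simp [mul_smul]⟩
  let act : MulAction G (Quotient S) :=
    { smul := fun g => Quotient.map (g • ·) (fun ω ω' => hcompat g ω ω')
      one_smul := by rintro ⟨ω⟩; exact congrArg (Quotient.mk S) (one_smul G ω)
      mul_smul := by rintro g h ⟨ω⟩; exact congrArg (Quotient.mk S) (mul_smul g h ω) }
  have hmk : ∀ (g : G) (ω : Ω), g • (Quotient.mk S ω) = Quotient.mk S (g • ω) := fun _ _ => rfl
  have : IsPretransitive G (Quotient S) := by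
    refine ⟨?_⟩
    rintro ⟨ω⟩ ⟨ω'⟩
    obtain ⟨g, hg⟩ := exists_smul_eq G ω ω'
    exact ⟨g, congrArg (Quotient.mk S) hg⟩
  have hlt : Nat.card (Quotient S) < n := by
    rw [← hn]
    refine lt_of_le_of_ne (Nat.card_le_card_of_surjective _ Quotient.mk_surjective) fun h => ?_
    have hinj := (Nat.bijective_iff_surjective_and_card (Quotient.mk S)).mpr
      ⟨Quotient.mk_surjective, h.symm⟩
    obtain ⟨a, ha, ω, hne⟩ := hMnt
    exact hne (hinj.1 (Quotient.sound (s := S) ⟨a⁻¹, M.inv_mem ha, inv_smul_smul _ _⟩))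
  have hone : 1 < Nat.card (Quotient S) := by
    rw [Finite.one_lt_card_iff_nontrivial]
    push Not at htrans
    obtain ⟨ω, ω', h⟩ := htrans
    exact ⟨⟨Quotient.mk S ω, Quotient.mk S ω', fun he =>
      let ⟨a, ha, h'⟩ := Quotient.exact he; h a ha h'⟩⟩
  have hrec := ih _ hlt (Quotient S) rfl hone
  let c₀ : Quotient S := Quotient.mk S ω₁
  set k := Nat.card {ω : Ω // Quotient.mk S ω = c₀} with hk
  have hfib : ∀ c : Quotient S, Nat.card {ω : Ω // Quotient.mk S ω = c} = k := by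
    intro c
    obtain ⟨g, hg⟩ := exists_smul_eq G c₀ c
    refine Nat.card_congr ((MulAction.toPerm g).subtypeEquiv fun ω => ?_).symm
    rw [MulAction.toPerm_apply, ← hmk, ← hg, smul_left_cancel_iff]
  have := Fintype.ofFinite (Quotient S)
  have htot : n = Nat.card (Quotient S) * k := by
    rw [← hn, ← Nat.card_congr (Equiv.sigmaFiberEquiv (Quotient.mk S)), Nat.card_sigma,
      Finset.sum_congr rfl (fun c _ => hfib c), Finset.sum_const, Finset.card_univ,
      Nat.card_eq_fintype_card, smul_eq_mul]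
  have hle : Nat.card ↥(fixedBy Ω x) ≤ Nat.card ↥(fixedBy (Quotient S) x) * k := by
    let f : ↥(fixedBy Ω x) → Σ c : ↥(fixedBy (Quotient S) x), {ω : Ω // Quotient.mk S ω = c.1} :=
      fun ω => ⟨⟨Quotient.mk S ω.1, congrArg (Quotient.mk S) ω.2⟩, ⟨ω.1, rfl⟩⟩
    have hf : Function.Injective f := by
      intro a b h
      exact Subtype.ext (congrArg (fun q => (q.2.1 : Ω)) h)
    have := Nat.card_le_card_of_injective f hf
    rw [Nat.card_sigma, Finset.sum_congr rfl (fun c _ => hfib c.1), Finset.sum_const,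
      Finset.card_univ, smul_eq_mul, ← Nat.card_eq_fintype_card] at this
    exact this
  rw [htot]
  calc 3 * Nat.card ↥(fixedBy Ω x) ≤ 3 * (Nat.card ↥(fixedBy (Quotient S) x) * k) :=
        Nat.mul_le_mul_left 3 hle
    _ = 3 * Nat.card ↥(fixedBy (Quotient S) x) * k := (mul_assoc _ _ _).symm
    _ ≤ Nat.card (Quotient S) * k := Nat.mul_le_mul_right _ hrec

end Cfsg.Agent.Lib.HalfFixed
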