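import Mathlib

/-!
Two non-commuting transvections of prime order `p ≥ 5` generate a non-solvable group.
-/

set_option autoImplicit false

namespace Cfsg.Agent.Lib.HalfFixed

open Matrix Subgroup
open scoped commutatorElement

variable {G Q : Type*} [Group G] [CommGroup Q] (φ : G →* MulAut Q)

/-- `g` acts on the pair `a, b` (of exponent `p`) through the matrix `A`. -/
def ActsBy {p : ℕ} (v : ZMod p × ZMod p → Q) (g : G) (A : Matrix (Fin 2) (Fin 2) (ZMod p)) : Prop :=
  ∀ s t, φ g (v (s, t)) = v (A 0 0 * s + A 0 1 * t, A 1 0 * s + A 1 1 * t)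

variable {p : ℕ} {v : ZMod p × ZMod p → Q}

theorem ActsBy.mul {g h : G} {A B : Matrix (Fin 2) (Fin 2) (ZMod p)} (hg : ActsBy φ v g A)
    (hh : ActsBy φ v h B) : ActsBy φ v (g * h) (A * B) := by
  intro s t
  rw [map_mul, MulAut.mul_apply, hh, hg]
  congr 1
  simp only [Matrix.mul_apply, Fin.sum_univ_two, Prod.mk.injEq]
  exact ⟨by ring, by ring⟩

theorem ActsBy.inv {g : G} {A B : Matrix (Fin 2) (Fin 2) (ZMod p)} (hg : ActsBy φ v g A)
    (hAB : A * B = 1) : ActsBy φ v g⁻¹ B := by
  intro s t
  rw [map_inv, MulAut.inv_apply, MulEquiv.symm_apply_eq, hg]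
  congr 1
  have h00 := congrFun (congrFun hAB 0) 0
  have h01 := congrFun (congrFun hAB 0) 1
  have h10 := congrFun (congrFun hAB 1) 0
  have h11 := congrFun (congrFun hAB 1) 1
  simp only [Matrix.mul_apply, Fin.sum_univ_two, Matrix.one_apply_eq,
    Matrix.one_apply_ne (show (0 : Fin 2) ≠ 1 by decide),
    Matrix.one_apply_ne (show (1 : Fin 2) ≠ 0 by decide)] at h00 h01 h10 h11
  simp only [Prod.mk.injEq]
  exact ⟨by linear_combination (-s) * h00 + (-t) * h01,
    by linear_combination (-s) * h10 + (-t) * h11⟩

/-- Upper unitriangular matrices. -/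
def upMat (t : ZMod p) : Matrix (Fin 2) (Fin 2) (ZMod p) := !![1, t; 0, 1]

/-- Lower unitriangular matrices. -/
def lowMat (t : ZMod p) : Matrix (Fin 2) (Fin 2) (ZMod p) := !![1, 0; t, 1]

theorem upMat_mul (s t : ZMod p) : upMat s * upMat t = upMat (s + t) := by
  simp [upMat, Matrix.mul_fin_two, add_comm]

theorem lowMat_mul (s t : ZMod p) : lowMat s * lowMat t = lowMat (s + t) := by
  simp [lowMat, Matrix.mul_fin_two, add_comm]

variable [hp : Fact p.Prime]

/-- A group with elements acting as non-trivial upper and lower transvections is not solvable. -/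
theorem not_isSolvable_of_transvections (h5 : 5 ≤ p) (hv : Function.Injective v)
    {lam mu : ZMod p} (hlam : lam ≠ 0) (hmu : mu ≠ 0) (x y : G)
    (hx : ActsBy φ v x (upMat lam)) (hy : ActsBy φ v y (lowMat mu)) :
    ¬ Group.IsSolvable G := by
  intro hsolv
  have h2 : (2 : ZMod p) ≠ 0 := by
    intro h
    have : ((2 : ℕ) : ZMod p) = 0 := by exact_mod_cast h
    rw [ZMod.natCast_eq_zero_iff] at this
    have := Nat.le_of_dvd (by norm_num) this; omega
  have h3 : (3 : ZMod p) ≠ 0 := by
    intro h
    have : ((3 : ℕ) : ZMod p) = 0 := by exact_mod_cast h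
    rw [ZMod.natCast_eq_zero_iff] at this
    have := Nat.le_of_dvd (by norm_num) this; omega
  have hi : (2 : ZMod p) * 2⁻¹ = 1 := mul_inv_cancel₀ h2
  have key : ∀ n, (∀ t, ∃ g ∈ derivedSeries G n, ActsBy φ v g (upMat t)) ∧
      (∀ t, ∃ g ∈ derivedSeries G n, ActsBy φ v g (lowMat t)) := by
    intro n
    induction n with
    | zero =>
      have hpowU : ∀ k : ℕ, ActsBy φ v (x ^ k) (upMat ((k : ZMod p) * lam)) := by
        intro k
        induction k with
        | zero => intro s t; simp [upMat]
        | succ k ih => rw [pow_succ, Nat.cast_succ, add_mul, one_mul, ← upMat_mul]; exact ih.mul φ hx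
      have hpowL : ∀ k : ℕ, ActsBy φ v (y ^ k) (lowMat ((k : ZMod p) * mu)) := by
        intro k
        induction k with
        | zero => intro s t; simp [lowMat]
        | succ k ih => rw [pow_succ, Nat.cast_succ, add_mul, one_mul, ← lowMat_mul]; exact ih.mul φ hy
      refine ⟨fun t => ⟨x ^ (t / lam).val, mem_top _, ?_⟩, fun t => ⟨y ^ (t / mu).val, mem_top _, ?_⟩⟩
      · have := hpowU (t / lam).val
        rwa [ZMod.natCast_zmod_val, div_mul_cancel₀ _ hlam] at this
      · have := hpowL (t / mu).val
        rwa [ZMod.natCast_zmod_val, div_mul_cancel₀ _ hmu] at this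
    | succ n ih =>
      obtain ⟨hU, hL⟩ := ih
      -- a diagonal element with entries `2, 1/2`
      obtain ⟨a₁, ha₁, hA₁⟩ := hU 2
      obtain ⟨b₁, hb₁, hB₁⟩ := hL (-2⁻¹)
      obtain ⟨a₂, ha₂, hA₂⟩ := hU (-1)
      obtain ⟨b₂, hb₂, hB₂⟩ := hL 1
      let d := a₁ * b₁ * a₁ * (a₂ * b₂ * a₂)
      have hd : d ∈ derivedSeries G n :=
        mul_mem (mul_mem (mul_mem ha₁ hb₁) ha₁) (mul_mem (mul_mem ha₂ hb₂) ha₂)
      have hD : ActsBy φ v d !![2, 0; 0, 2⁻¹] := by
        have := ((hA₁.mul φ hB₁).mul φ hA₁).mul φ ((hA₂.mul φ hB₂).mul φ hA₂)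
        convert this using 1
        simp only [upMat, lowMat, Matrix.mul_fin_two]
        ext i j
        fin_cases i <;> fin_cases j <;>
          simp only [Fin.zero_eta, Fin.mk_one, Matrix.cons_val_zero, Matrix.cons_val_one,
            Matrix.of_apply, Matrix.cons_val', Matrix.cons_val_fin_one, Matrix.head_cons] <;>
          first
            | ring1
            | linear_combination (0 : ZMod p) * hi
            | linear_combination (1 : ZMod p) * hi
            | linear_combination (-1 : ZMod p) * hi
            | linear_combination (2 : ZMod p) * hi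
            | linear_combination (-2 : ZMod p) * hi
            | linear_combination (3 : ZMod p) * hi
            | linear_combination (-3 : ZMod p) * hi
            | linear_combination (4 : ZMod p) * hi
            | linear_combination (-4 : ZMod p) * hi
            | linear_combination (2⁻¹ : ZMod p) * hi
            | linear_combination (-2⁻¹ : ZMod p) * hi
      have hD' : ActsBy φ v d⁻¹ !![2⁻¹, 0; 0, 2] := by
        refine hD.inv φ ?_
        simp [Matrix.mul_fin_two, hi, inv_mul_cancel₀ h2, Matrix.one_fin_two]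
      refine ⟨fun t => ?_, fun t => ?_⟩
      · obtain ⟨g, hg, hG⟩ := hU (t / 3)
        obtain ⟨g', hg', hG'⟩ := hU (-(t / 3))
        refine ⟨⁅d, g⁆, commutator_mem_commutator hd hg, ?_⟩
        have hginv : ActsBy φ v g⁻¹ (upMat (-(t / 3))) :=
          hG.inv φ (by rw [upMat_mul, add_neg_cancel]; simp [upMat, Matrix.one_fin_two])
        have := ((hD.mul φ hG).mul φ hD').mul φ hginv
        rw [commutatorElement_def]
        convert this using 1
        simp only [upMat, Matrix.mul_fin_two]
        have ht : t / 3 * 3 = t := div_mul_cancel₀ _ h3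
        generalize t / 3 = u at ht
        subst ht
        ext i j
        fin_cases i <;> fin_cases j <;> simp <;>
          first
            | exact hi.symm
            | exact (inv_mul_cancel₀ h2).symm
            | linear_combination (u : ZMod p) * hi
            | linear_combination (-u : ZMod p) * hi
      · have h4 : (4⁻¹ : ZMod p) - 1 ≠ 0 := by
          intro h
          have h4' : (4 : ZMod p) ≠ 0 := by
            rw [show (4 : ZMod p) = 2 * 2 by norm_num]; exact mul_ne_zero h2 h2
          apply h3
          linear_combination (-4 : ZMod p) * h + mul_inv_cancel₀ h4'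
        obtain ⟨g, hg, hG⟩ := hL (t / (4⁻¹ - 1))
        refine ⟨⁅d, g⁆, commutator_mem_commutator hd hg, ?_⟩
        have hginv : ActsBy φ v g⁻¹ (lowMat (-(t / (4⁻¹ - 1)))) :=
          hG.inv φ (by rw [lowMat_mul, add_neg_cancel]; simp [lowMat, Matrix.one_fin_two])
        have := ((hD.mul φ hG).mul φ hD').mul φ hginv
        rw [commutatorElement_def]
        convert this using 1
        simp only [lowMat, Matrix.mul_fin_two]
        have ht : t / (4⁻¹ - 1) * (4⁻¹ - 1) = t := div_mul_cancel₀ _ h4
        generalize t / (4⁻¹ - 1) = u at ht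
        subst ht
        have h22 : (4⁻¹ : ZMod p) = 2⁻¹ * 2⁻¹ := by rw [← mul_inv]; norm_num
        rw [h22]
        ext i j
        fin_cases i <;> fin_cases j <;> simp <;>
          first
            | exact hi.symm
            | exact (inv_mul_cancel₀ h2).symm
            | linear_combination (u : ZMod p) * hi
            | linear_combination (-u : ZMod p) * hi
            | ring1
  obtain ⟨n, hn⟩ := (Group.isSolvable_def G).mp hsolv
  obtain ⟨g, hg, hG⟩ := (key n).1 1
  rw [hn, mem_bot] at hg
  have := hG 0 1
  rw [hg, map_one, MulAut.one_apply] at this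
  simpa [upMat] using congrArg Prod.fst (hv this)

end Cfsg.Agent.Lib.HalfFixed
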