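import Cfsg.Agent.Lib.HalfFixed.Weights
import Cfsg.Agent.Lib.HalfFixed.Transitive
import Cfsg.Agent.Lib.HalfFixed.Transvection

/-!
In an irreducible representation of a finite solvable group over an algebraically closed field, an
element of prime order `p ≥ 5` whose normal closure is the whole group fixes less than half of the
space.
-/

set_option autoImplicit false

namespace Cfsg.Agent.Lib.HalfFixed

open Module Subgroup
open scoped commutatorElement

universe u

variable {K : Type*} [Field K] {W : Type*} [AddCommGroup W] [Module K W]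
  {G : Type u} [Group G]

/-- Faithful irreducibility, in the plain form. -/
def IsIrredAct (ρ : Representation K G W) : Prop :=
  ∀ U : Submodule K W, (∀ g, ∀ v ∈ U, ρ g v ∈ U) → U = ⊥ ∨ U = ⊤

theorem rho_mul (ρ : Representation K G W) (g h : G) (v : W) : ρ (g * h) v = ρ g (ρ h v) := by
  rw [map_mul]; rfl

theorem rho_inv_self (ρ : Representation K G W) (g : G) (v : W) : ρ g⁻¹ (ρ g v) = v := by
  rw [← rho_mul, inv_mul_cancel, map_one]; rfl

theorem exists_scalar [IsAlgClosed K] [FiniteDimensional K W] [Nontrivial W]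
    (ρ : Representation K G W) (hirr : IsIrredAct ρ) {z : G} (hz : z ∈ center G) :
    ∃ c : K, ρ z = c • 1 := by
  obtain ⟨c, hc⟩ := Module.End.exists_eigenvalue (ρ z)
  refine ⟨c, ?_⟩
  have hinv : ∀ g, ∀ v ∈ Module.End.eigenspace (ρ z) c, ρ g v ∈ Module.End.eigenspace (ρ z) c := by
    intro g v hv
    rw [Module.End.mem_eigenspace_iff] at hv ⊢
    rw [← rho_mul, ← (mem_center_iff.mp hz g), rho_mul, hv, map_smul]
  rcases hirr _ hinv with h | h
  · exact absurd h hc
  · ext v
    have : v ∈ Module.End.eigenspace (ρ z) c := h ▸ Submodule.mem_top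
    simpa [Module.End.mem_eigenspace_iff] using this

/-- Abelian case. -/
theorem two_mul_fixed_lt_of_abelian [IsAlgClosed K] [FiniteDimensional K W] [Nontrivial W]
    [Finite G] [Group.IsSolvable G] (ρ : Representation K G W) (hinj : Function.Injective ρ)
    (hirr : IsIrredAct ρ) {p : ℕ} (hp : p.Prime) (h5 : 5 ≤ p) (x : G) (hxp : x ^ p = 1)
    (hgen : normalClosure ({x} : Set G) = ⊤) (N : Subgroup G) [hN : N.Normal]
    (hcomm : ∀ a ∈ N, ∀ b ∈ N, a * b = b * a) (hx : ¬ ∀ a ∈ N, x * a = a * x) :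
    2 * finrank K ↥(LinearMap.ker (ρ x - 1)) < finrank K W := by
  classical
  let E : (↥N → K) → Submodule K W := fun χ => ⨅ a : N, Module.End.eigenspace (ρ a) (χ a)
  have hmem : ∀ χ v, v ∈ E χ ↔ ∀ a : N, ρ a v = χ a • v := fun χ v => by
    simp [E, Module.End.mem_eigenspace_iff]
  have hindep : iSupIndep E :=
    iSupIndep_weight (fun a : N => ρ a) id Function.injective_id E (fun χ v hv a => (hmem χ v).mp hv a)
  -- a common eigenvector
  have hex : ∀ s : Finset N, ∃ U : Submodule K W, U ≠ ⊥ ∧ (∀ a : N, ∀ v ∈ U, ρ a v ∈ U) ∧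
      ∀ a ∈ s, ∃ c : K, ∀ v ∈ U, ρ a v = c • v := by
    intro s
    induction s using Finset.induction with
    | empty => exact ⟨⊤, top_ne_bot, fun _ _ _ => Submodule.mem_top, by simp⟩
    | @insert a s ha ih =>
      obtain ⟨U, hU, hUinv, hUs⟩ := ih
      have : Nontrivial U := Submodule.nontrivial_iff_ne_bot.mpr hU
      obtain ⟨c, hc⟩ := Module.End.exists_eigenvalue ((ρ a).restrict (hUinv a))
      obtain ⟨w, hw, hw0⟩ := hc.exists_hasEigenvector
      rw [Module.End.mem_eigenspace_iff] at hw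
      refine ⟨U ⊓ Module.End.eigenspace (ρ a) c, ?_, ?_, ?_⟩
      · rw [Submodule.ne_bot_iff]
        refine ⟨w.1, ⟨w.2, ?_⟩, fun h => hw0 (Subtype.ext h)⟩
        exact Module.End.mem_eigenspace_iff.mpr (congrArg Subtype.val hw)
      · rintro b v ⟨hv, hv'⟩
        refine ⟨hUinv b v hv, ?_⟩
        rw [SetLike.mem_coe, Module.End.mem_eigenspace_iff] at hv' ⊢
        rw [← rho_mul, hcomm a a.2 b b.2, rho_mul, hv', map_smul]
      · intro b hb
        rcases Finset.mem_insert.mp hb with rfl | hb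
        · exact ⟨c, fun v hv => Module.End.mem_eigenspace_iff.mp hv.2⟩
        · obtain ⟨c', hc'⟩ := hUs b hb
          exact ⟨c', fun v hv => hc' v hv.1⟩
  have : Fintype N := Fintype.ofFinite N
  obtain ⟨U, hU, -, hUs⟩ := hex Finset.univ
  choose χ₀ hχ₀ using fun a : N => hUs a (Finset.mem_univ a)
  have hE₀ : E χ₀ ≠ ⊥ := fun h => hU <| le_bot_iff.mp <| h ▸ fun v hv =>
    (hmem χ₀ v).mpr fun a => hχ₀ a v hv
  -- the action of `G` on the weights
  let act : G → (↥N → K) → (↥N → K) :=
    fun g χ a => χ ⟨g⁻¹ * a * g, by simpa using hN.conj_mem a a.2 g⁻¹⟩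
  let actA : MulAction G (↥N → K) :=
    { smul := act
      one_smul := fun χ => funext fun a => by
        show χ _ = χ a; congr 1; exact Subtype.ext (by simp)
      mul_smul := fun g h χ => funext fun a => by
        show χ _ = χ _; congr 1; exact Subtype.ext (by simp [mul_assoc]) }
  have hmap : ∀ g χ, ∀ v ∈ E χ, ρ g v ∈ E (g • χ) := by
    intro g χ v hv
    rw [hmem] at hv ⊢
    intro a
    have h := hv ⟨g⁻¹ * a * g, by simpa using hN.conj_mem a a.2 g⁻¹⟩
    show _ = χ _ • _
    rw [← rho_mul, ← map_smul, ← h, ← rho_mul]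
    congr 1
    congr 1
    group
  let O := MulAction.orbit G χ₀
  have hfinO : Finite O := Finite.of_surjective (fun g : G => (⟨g • χ₀, g, rfl⟩ : O))
    (fun ⟨_, g, hg⟩ => ⟨g, Subtype.ext hg⟩)
  have : Fintype O := Fintype.ofFinite O
  let F : O → Submodule K W := fun ω => E ω.1
  have hFind : iSupIndep F := hindep.comp Subtype.val_injective
  have hFsup : iSup F = ⊤ := by
    refine (hirr _ fun g v hv => ?_).resolve_left fun h => ?_
    · refine Submodule.iSup_induction F (motive := fun v => ρ g v ∈ iSup F) hv (fun ω w hw => ?_)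
        (by simp) (fun a b ha hb => by rw [map_add]; exact add_mem ha hb)
      exact Submodule.mem_iSup_of_mem (g • ω) (hmap g ω.1 w hw)
    · exact hE₀ (le_bot_iff.mp (h ▸ le_iSup F ⟨χ₀, MulAction.mem_orbit_self χ₀⟩))
  set d := finrank K (E χ₀) with hd
  have hd0 : 0 < d := by
    rw [hd, Nat.pos_iff_ne_zero, Ne, Submodule.finrank_eq_zero]; exact hE₀
  have hdim : ∀ g χ, finrank K (E χ) ≤ finrank K (E (g • χ)) := fun g χ =>
    LinearMap.finrank_le_finrank_of_injective (f := (ρ g).restrict (hmap g χ))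
      (fun a b h => Subtype.ext (by
        have := congrArg (fun w : E (g • χ) => ρ g⁻¹ w.1) h
        simpa [rho_inv_self] using this))
  have hdω : ∀ ω : O, finrank K (F ω) = d := by
    rintro ⟨_, g, rfl⟩
    refine le_antisymm ?_ (hdim g χ₀)
    have := hdim g⁻¹ (g • χ₀)
    rwa [inv_smul_smul] at this
  have hcard : 1 < Nat.card O := by
    rw [Finite.one_lt_card_iff_nontrivial]
    by_contra h
    rw [not_nontrivial_iff_subsingleton] at h
    apply hx
    intro a ha
    have htop : E χ₀ = ⊤ := by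
      refine top_le_iff.mp (hFsup ▸ iSup_le fun ω => ?_)
      show E ω.1 ≤ E χ₀
      rw [show ω = ⟨χ₀, MulAction.mem_orbit_self χ₀⟩ from Subsingleton.elim _ _]
    have hsc : ∀ v, ρ a v = χ₀ ⟨a, ha⟩ • v := fun v =>
      (hmem χ₀ v).mp (htop ▸ Submodule.mem_top) ⟨a, ha⟩
    apply hinj
    ext v
    rw [rho_mul, rho_mul, hsc, hsc, map_smul]
  let σ : Equiv.Perm O := MulAction.toPerm x
  have hσ : σ ^ p = 1 := by
    show (MulAction.toPermHom G O x) ^ p = 1
    rw [← map_pow, hxp, map_one]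
  obtain ⟨R, hR, hRcard⟩ := exists_cycle_reps hp σ hσ
  obtain ⟨hn, hf⟩ := finrank_fixed_le F hFind hFsup d hdω (ρ x) σ
    (fun ω v hv => hmap x ω.1 v hv) R hR
  have hthird := three_mul_fixed_le hp (by omega) x hxp hgen _ O rfl hcard
  have hfix : (Finset.univ.filter fun ω => σ ω = ω).card = Nat.card ↥(MulAction.fixedBy O x) := by
    rw [← Fintype.card_subtype, ← Nat.card_eq_fintype_card]
    rfl
  rw [hfix] at hRcard
  rw [Nat.card_eq_fintype_card (α := O)] at hthird hcard
  rw [hn]
  obtain ⟨p', rfl⟩ : ∃ p', p = p' + 5 := ⟨p - 5, by omega⟩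
  rw [show p' + 5 - 1 = p' + 4 by omega] at hRcard
  have h1 : 3 * ((p' + 5) * R.card) ≤ (p' + 7) * Fintype.card O := by nlinarith
  have h2 : (p' + 5) * (2 * (3 * R.card)) < (p' + 5) * (3 * Fintype.card O) := by nlinarith
  have h3 : 2 * R.card < Fintype.card O := by
    have := Nat.lt_of_mul_lt_mul_left h2; omega
  nlinarith

/-- Scalars of commutators in the non-abelian case. -/
structure Pairing (ρ : Representation K G W) (N : Subgroup G) where
  /-- the scalar -/
  lam : G → G → K
  spec : ∀ a ∈ N, ∀ b ∈ N, ρ a * ρ b = lam a b • (ρ b * ρ a)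
  uniq : ∀ a ∈ N, ∀ b ∈ N, ∀ c : K, ρ a * ρ b = c • (ρ b * ρ a) → c = lam a b

namespace Pairing

variable {ρ : Representation K G W} {N : Subgroup G}

theorem exists_of_central [IsAlgClosed K] [FiniteDimensional K W] [Nontrivial W]
    (hirr : IsIrredAct ρ) (hN : ⁅N, N⁆ ≤ center G) : Nonempty (Pairing ρ N) := by
  classical
  let lam : G → G → K := fun a b =>
    if h : ⁅a, b⁆ ∈ center G then (exists_scalar ρ hirr h).choose else 0
  have hspec : ∀ a ∈ N, ∀ b ∈ N, ρ a * ρ b = lam a b • (ρ b * ρ a) := by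
    intro a ha b hb
    have h := hN (commutator_mem_commutator ha hb)
    have hc := (exists_scalar ρ hirr h).choose_spec
    simp only [lam, dif_pos h]
    rw [← map_mul, show a * b = ⁅a, b⁆ * (b * a) by rw [commutatorElement_def]; group, map_mul,
      map_mul]
    conv_lhs => arg 1; rw [hc]
    rw [smul_mul_assoc, one_mul]
  refine ⟨⟨lam, hspec, fun a ha b hb c hc => ?_⟩⟩
  have h1 : c • (1 : End K W) = lam a b • 1 := by
    have hinv : ρ b * ρ a * ρ (b * a)⁻¹ = 1 := by
      rw [← map_mul, ← map_mul, mul_inv_cancel, map_one]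
    have := congrArg (fun f => f * ρ (b * a)⁻¹) (hc.symm.trans (hspec a ha b hb))
    simpa only [smul_mul_assoc, hinv] using this
  exact smul_left_injective K (one_ne_zero (α := End K W)) h1

variable (P : Pairing ρ N)

theorem mul_left {a a' b : G} (ha : a ∈ N) (ha' : a' ∈ N) (hb : b ∈ N) :
    P.lam (a * a') b = P.lam a b * P.lam a' b := by
  refine (P.uniq _ (mul_mem ha ha') _ hb _ ?_).symm
  rw [map_mul, mul_assoc, P.spec a' ha' b hb, mul_smul_comm, ← mul_assoc, P.spec a ha b hb,
    smul_mul_assoc, smul_smul, mul_assoc, mul_comm (P.lam a b)]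

theorem swap [Nontrivial W] {a b : G} (ha : a ∈ N) (hb : b ∈ N) : P.lam a b * P.lam b a = 1 := by
  have h : (1 : K) • (ρ a * ρ b) = (P.lam a b * P.lam b a) • (ρ a * ρ b) := by
    rw [one_smul, ← smul_smul, ← P.spec b hb a ha, ← P.spec a ha b hb]
  have hne : ρ a * ρ b ≠ 0 := fun hz => by
    have := congrArg (fun f => f * ρ (a * b)⁻¹) hz
    simp only [← map_mul, zero_mul, mul_inv_cancel, map_one] at this
    exact one_ne_zero this
  exact (smul_left_injective K hne h).symm

theorem mul_right {a b b' : G} (ha : a ∈ N) (hb : b ∈ N) (hb' : b' ∈ N) :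
    P.lam a (b * b') = P.lam a b * P.lam a b' := by
  refine (P.uniq _ ha _ (mul_mem hb hb') _ ?_).symm
  rw [map_mul, ← mul_assoc, P.spec a ha b hb, smul_mul_assoc, mul_assoc, P.spec a ha b' hb',
    mul_smul_comm, smul_smul, mul_assoc]

theorem eq_one {a b : G} (ha : a ∈ N) (hb : b ∈ N) (h : a * b = b * a) : P.lam a b = 1 :=
  (P.uniq a ha b hb 1 (by rw [one_smul, ← map_mul, ← map_mul, h])).symm

theorem eq_one_iff (hinj : Function.Injective ρ) {a b : G} (ha : a ∈ N) (hb : b ∈ N) :
    P.lam a b = 1 ↔ a * b = b * a := by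
  refine ⟨fun h => hinj ?_, P.eq_one ha hb⟩
  rw [map_mul, map_mul, P.spec a ha b hb, h, one_smul]

theorem conj (hN : N.Normal) (g : G) {a b : G} (ha : a ∈ N) (hb : b ∈ N) :
    P.lam (g * a * g⁻¹) (g * b * g⁻¹) = P.lam a b := by
  refine (P.uniq _ (hN.conj_mem a ha g) _ (hN.conj_mem b hb g) _ ?_).symm
  rw [← map_mul, ← map_mul, show g * a * g⁻¹ * (g * b * g⁻¹) = g * (a * b) * g⁻¹ by group,
    show g * b * g⁻¹ * (g * a * g⁻¹) = g * (b * a) * g⁻¹ by group]
  simp only [map_mul, P.spec a ha b hb, mul_smul_comm, smul_mul_assoc]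

end Pairing

/-- The arithmetic at the end of the non-abelian case. -/
theorem false_of_index_small {p r k c i : ℕ} (hp : p.Prime) (h5 : 5 ≤ p) (hr : r.Prime)
    (hi : i = r ^ k) (hk : 2 ≤ k) (hcong : r ≠ p → i * c ≡ c [MOD p]) (hc : ∃ j, c = r ^ j)
    (hlt : p * (i * c) < 4 * (i * c + (p - 1) * c)) : False := by
  have hc0 : 0 < c := by obtain ⟨j, rfl⟩ := hc; exact pow_pos hr.pos j
  have hlt' : p * i < 4 * (i + (p - 1)) := by
    refine Nat.lt_of_mul_lt_mul_right (a := c) ?_
    nlinarith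
  have hi4 : 4 ≤ i := by
    rw [hi]
    calc 4 = 2 ^ 2 := rfl
      _ ≤ r ^ 2 := Nat.pow_le_pow_left hr.two_le 2
      _ ≤ r ^ k := Nat.pow_le_pow_right hr.pos hk
  by_cases hrp : r = p
  · subst hrp
    have h2 : r * r ≤ i := by rw [hi, ← sq]; exact Nat.pow_le_pow_right hr.pos hk
    obtain ⟨p', rfl⟩ : ∃ p', r = p' + 5 := ⟨r - 5, by omega⟩
    rw [show p' + 5 - 1 = p' + 4 by omega] at hlt'
    nlinarith
  have h1 : i ≡ 1 [MOD p] := by
    obtain ⟨j, rfl⟩ := hc
    have hcop : Nat.Coprime p (r ^ j) :=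
      Nat.Coprime.pow_right j ((Nat.coprime_primes hp hr).mpr (Ne.symm hrp))
    have := hcong hrp
    exact Nat.ModEq.cancel_right_of_coprime hcop (by simpa using this)
  have hdvd : p ∣ i - 1 := (Nat.modEq_iff_dvd' (by omega)).mp h1.symm
  have hip : p ≤ i - 1 := Nat.le_of_dvd (by omega) hdvd
  by_cases hp7 : 7 ≤ p
  · obtain ⟨p', rfl⟩ : ∃ p', p = p' + 7 := ⟨p - 7, by omega⟩
    rw [show p' + 7 - 1 = p' + 6 by omega] at hlt'
    have : p' + 8 ≤ i := by omega
    nlinarith
  have hp5 : p = 5 := by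
    rcases Nat.lt_or_ge p 6 with h | h
    · omega
    · have : p = 6 := by omega
      subst this; norm_num at hp
  subst hp5
  have hi16 : i < 16 := by omega
  have : i = 6 ∨ i = 11 := by omega
  rcases this with h | h
  · have h2 : 2 = r := (Nat.prime_dvd_prime_iff_eq Nat.prime_two hr).mp
      (Nat.prime_two.dvd_of_dvd_pow (n := k) (by rw [← hi, h]; norm_num))
    have h3 : 3 = r := (Nat.prime_dvd_prime_iff_eq Nat.prime_three hr).mp
      (Nat.prime_three.dvd_of_dvd_pow (n := k) (by rw [← hi, h]; norm_num))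
    omega
  · have h11 : Nat.Prime (r ^ k) := by rw [← hi, h]; norm_num
    have := Nat.Prime.eq_one_of_pow h11
    omega

end Cfsg.Agent.Lib.HalfFixed
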