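import Cfsg.Agent.Lib.HalfFixed.NonAbelian

/-!
Fixed spaces of elements of prime order `p ≥ 5` generating a solvable group normally, over any field.
-/

set_option autoImplicit false

namespace Cfsg.Agent.Lib.HalfFixed

open Module Subgroup
open scoped TensorProduct

universe u v

/-- The bound for all representations over an algebraically closed field in which some subgroup
`N` of order invertible in the field has no fixed vectors. -/
theorem two_mul_fixed_lt_of_sum_eq_zero {K : Type*} [Field K] [IsAlgClosed K]
    {G : Type u} [Group G] [Finite G] [Group.IsSolvable G] (N : Subgroup G) [Fintype N]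
    (hNK : (Fintype.card N : K) ≠ 0) {p : ℕ} (hp : p.Prime) (h5 : 5 ≤ p) (x : G) (hxp : x ^ p = 1)
    (hgen : normalClosure ({x} : Set G) = ⊤) :
    ∀ (n : ℕ) (W : Type v) [AddCommGroup W] [Module K W] [FiniteDimensional K W] [Nontrivial W]
      (ρ : Representation K G W), (∑ a : N, ρ a) = 0 → finrank K W = n →
        2 * finrank K ↥(LinearMap.ker (ρ x - 1)) < n := by
  intro n
  induction n using Nat.strong_induction_on with
  | _ n ih => ?_
  intro W _ _ _ _ ρ hsum hn
  classical
  by_cases hirr : IsIrredAct ρ
  · subst hn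
    let f : G →* (End K W)ˣ := Representation.asGroupHom ρ
    let ρ' : Representation K f.range W := (Units.coeHom (End K W)).comp f.range.subtype
    have hinj : Function.Injective ρ' := fun a b h => Subtype.ext (Units.ext h)
    have hρ' : ∀ g, ρ' (f.rangeRestrict g) = ρ g := fun g => rfl
    have : Group.IsSolvable f.range := solvable_of_surjective f.rangeRestrict_surjective
    have : Finite f.range := Finite.of_surjective _ f.rangeRestrict_surjective
    have hnt : Nontrivial f.range := by
      by_contra h
      rw [not_nontrivial_iff_subsingleton] at h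
      have h1 : ∀ g, ρ g = 1 := fun g => by
        rw [← hρ' g, Subsingleton.elim (f.rangeRestrict g) 1, map_one]
      simp only [h1, Finset.sum_const, Finset.card_univ, ← Nat.cast_smul_eq_nsmul K, smul_eq_zero,
        one_ne_zero, or_false] at hsum
      exact hNK hsum
    have hgen' : normalClosure ({f.rangeRestrict x} : Set f.range) = ⊤ := by
      rw [← Set.image_singleton, ← map_normalClosure _ _ f.rangeRestrict_surjective, hgen,
        map_top_of_surjective _ f.rangeRestrict_surjective]
    have hirr' : IsIrredAct ρ' := fun U hU =>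
      hirr U fun g v hv => hρ' g ▸ hU (f.rangeRestrict g) v hv
    have := two_mul_fixed_lt_of_irred ρ' hinj hirr' hp h5 (f.rangeRestrict x)
      (by rw [← map_pow, hxp, map_one]) hgen'
    rwa [hρ'] at this
  · simp only [IsIrredAct, not_forall, not_or] at hirr
    obtain ⟨U, hU, hbot, htop⟩ := hirr
    have hcomap : ∀ g, U ≤ U.comap (ρ g) := fun g v hv => hU g v hv
    let ρ₁ := Representation.subrepresentation ρ U hcomap
    let ρ₂ := Representation.quotient ρ U hcomap
    have h₁ : (∑ a : N, ρ₁ a) = 0 := by
      ext v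
      have := LinearMap.congr_fun hsum (v : W)
      simpa [ρ₁, LinearMap.sum_apply] using this
    have h₂ : (∑ a : N, ρ₂ a) = 0 := by
      refine Submodule.linearMap_qext U (LinearMap.ext fun v => ?_)
      have := congrArg U.mkQ (LinearMap.congr_fun hsum v)
      simpa [ρ₂, LinearMap.sum_apply, map_sum] using this
    have : Nontrivial U := Submodule.nontrivial_iff_ne_bot.mpr hbot
    have : Nontrivial (W ⧸ U) := Submodule.Quotient.nontrivial_iff.mpr htop
    have hsplit := Submodule.finrank_quotient_add_finrank U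
    have hpos₁ : 0 < finrank K U := Module.finrank_pos
    have hpos₂ : 0 < finrank K (W ⧸ U) := Module.finrank_pos
    have r₁ := ih (finrank K U) (by omega) U ρ₁ h₁ rfl
    have r₂ := ih (finrank K (W ⧸ U)) (by omega) (W ⧸ U) ρ₂ h₂ rfl
    set C := LinearMap.ker (ρ x - 1)
    have hC : ∀ v ∈ C, ρ x v = v := fun v hv => sub_eq_zero.mp (LinearMap.mem_ker.mp hv)
    let π : C →ₗ[K] W ⧸ U := U.mkQ ∘ₗ C.subtype
    have hr : finrank K (LinearMap.range π) ≤ finrank K ↥(LinearMap.ker (ρ₂ x - 1)) := by
      refine Submodule.finrank_mono ?_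
      rintro _ ⟨v, rfl⟩
      rw [LinearMap.mem_ker, LinearMap.sub_apply, sub_eq_zero]
      show U.mapQ U (ρ x) (hcomap x) (U.mkQ v.1) = U.mkQ v.1
      rw [Submodule.mkQ_apply, Submodule.mapQ_apply, hC _ v.2]
    have hk : finrank K (LinearMap.ker π) ≤ finrank K ↥(LinearMap.ker (ρ₁ x - 1)) := by
      let g : LinearMap.ker π →ₗ[K] ↥(LinearMap.ker (ρ₁ x - 1)) :=
        LinearMap.codRestrict _ (LinearMap.codRestrict U (C.subtype ∘ₗ (LinearMap.ker π).subtype)
          (fun v => (Submodule.Quotient.mk_eq_zero U).mp (LinearMap.mem_ker.mp v.2)))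
          (fun v => by
            rw [LinearMap.mem_ker, LinearMap.sub_apply, sub_eq_zero]
            exact Subtype.ext (hC _ v.1.2))
      exact LinearMap.finrank_le_finrank_of_injective (f := g) fun a b h =>
        Subtype.ext (Subtype.ext (congrArg (fun t => (t.1 : W)) h))
    have htot := LinearMap.finrank_range_add_finrank_ker π
    omega

/-- In an irreducible representation of a non-trivial finite solvable group over a field of
characteristic `ℓ`, some subgroup of order prime to `ℓ` has no fixed vectors. -/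
theorem exists_sum_eq_zero {k : Type*} [Field k] (ℓ : ℕ) [Fact ℓ.Prime] [CharP k ℓ]
    {V : Type*} [AddCommGroup V] [Module k V] {G : Type*} [Group G] [Finite G] [Group.IsSolvable G]
    [Nontrivial G] [Nontrivial V]
    (ρ : Representation k G V) (hinj : Function.Injective ρ) (hirr : IsIrredAct ρ) :
    ∃ (N : Subgroup G) (_ : Fintype N), (Fintype.card N : k) ≠ 0 ∧ (∑ a : N, ρ a) = 0 := by
  classical
  obtain ⟨x, hx⟩ := exists_ne (1 : G)
  obtain ⟨M, hM, hcomm, a, ha, g, hag⟩ := exists_commutative_acting (G := G) G ⟨x, 1, by simpa using hx⟩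
  have hcomm' : ∀ s ∈ M, ∀ t ∈ M, s * t = t * s := fun s hs t ht => by
    have := hcomm s hs t ht 1
    simpa using this
  have ha1 : a ≠ 1 := fun h => hag (by rw [h, one_smul])
  have hcard : Nat.card M ≠ 1 := fun h =>
    ha1 (congrArg Subtype.val ((Nat.card_eq_one_iff_unique.mp h).1.elim ⟨a, ha⟩ (1 : M)))
  obtain ⟨r, hr, hrd⟩ := Nat.exists_prime_and_dvd hcard
  have : Fact r.Prime := ⟨hr⟩
  let N : Subgroup G :=
    { carrier := {s | s ∈ M ∧ s ^ r = 1}
      one_mem' := ⟨M.one_mem, one_pow r⟩
      mul_mem' := fun {s t} hs ht => ⟨M.mul_mem hs.1 ht.1, by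
        rw [(show Commute s t from hcomm' s hs.1 t ht.1).mul_pow, hs.2, ht.2, one_mul]⟩
      inv_mem' := fun {s} hs => ⟨M.inv_mem hs.1, by rw [inv_pow, hs.2, inv_one]⟩ }
  have hNn : ∀ h : G, ∀ s ∈ N, h * s * h⁻¹ ∈ N := fun h s hs =>
    ⟨hM.conj_mem s hs.1 h, by rw [conj_pow, hs.2, mul_one, mul_inv_cancel]⟩
  obtain ⟨b, hb⟩ := exists_prime_orderOf_dvd_card' r hrd
  have hbN : (b : G) ∈ N := ⟨b.2, by
    have h1 : b ^ r = 1 := hb ▸ pow_orderOf_eq_one b
    exact congrArg Subtype.val h1⟩
  have hb1 : (b : G) ≠ 1 := fun h => by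
    rw [OneMemClass.coe_eq_one] at h
    rw [h, orderOf_one] at hb
    exact hr.ne_one hb.symm
  let _inst : Fintype N := Fintype.ofFinite _
  -- the fixed space of `N` is trivial
  have hfix : ∀ v : V, (∀ s ∈ N, ρ s v = v) → v = 0 := by
    let U : Submodule k V := ⨅ s : N, LinearMap.ker (ρ (s : G) - 1)
    have hUmem : ∀ v, v ∈ U ↔ ∀ s ∈ N, ρ s v = v := fun v => by
      simp [U, sub_eq_zero]
    intro v hv
    rcases hirr U (fun h w hw => by
      rw [hUmem] at hw ⊢
      intro s hs
      have := hw (h⁻¹ * s * h) (by simpa using hNn h⁻¹ s hs)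
      calc ρ s (ρ h w) = ρ h (ρ (h⁻¹ * s * h) w) := by
            rw [← rho_mul, ← rho_mul]; congr 2; group
        _ = ρ h w := by rw [this]) with h | h
    · exact (Submodule.mem_bot k).mp (h ▸ (hUmem v).mpr hv)
    · exfalso
      apply hb1
      apply hinj
      ext w
      rw [map_one, Module.End.one_apply]
      exact (hUmem w).mp (h ▸ Submodule.mem_top) _ hbN
  refine ⟨N, _inst, ?_, LinearMap.ext fun v => hfix _ fun s hs => ?_⟩
  · intro h0
    have hPN : IsPGroup r N := fun s => ⟨1, by rw [pow_one]; exact Subtype.ext s.2.2⟩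
    obtain ⟨e, he⟩ := hPN.exists_card_eq
    rw [← Nat.card_eq_fintype_card, he, Nat.cast_pow] at h0
    have hr0 : (r : k) = 0 := eq_zero_of_pow_eq_zero h0
    have hrl : ℓ = r := (Nat.prime_dvd_prime_iff_eq Fact.out hr).mp ((CharP.cast_eq_zero_iff k ℓ r).mp hr0)
    subst hrl
    -- then `N` is unipotent, so it fixes a non-zero vector
    have key : ∀ s : Finset N, ∃ v : V, v ≠ 0 ∧ ∀ t ∈ s, ρ (t : G) v = v := by
      intro s
      induction s using Finset.induction with
      | empty =>
        obtain ⟨v, hv⟩ := exists_ne (0 : V)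
        exact ⟨v, hv, by simp⟩
      | @insert t s _ ih =>
        obtain ⟨v, hv, hs⟩ := ih
        have hnil : ((ρ (t : G) - 1 : Module.End k V) ^ ℓ) v = 0 := by
          have : CharP (End k V) ℓ := charP_of_injective_algebraMap (algebraMap k (End k V)).injective ℓ
          rw [sub_pow_char_of_commute _ (Commute.one_right _), one_pow, ← map_pow, t.2.2, map_one,
            sub_self, LinearMap.zero_apply]
        have hex : ∃ m, ((ρ (t : G) - 1 : Module.End k V) ^ (m + 1)) v = 0 :=
          ⟨ℓ - 1, by rw [Nat.sub_add_cancel hr.one_le]; exact hnil⟩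
        obtain ⟨m, hm, hmin⟩ : ∃ m, ((ρ (t : G) - 1 : Module.End k V) ^ (m + 1)) v = 0 ∧
            ∀ j < m, ((ρ (t : G) - 1 : Module.End k V) ^ (j + 1)) v ≠ 0 :=
          ⟨Nat.find hex, Nat.find_spec hex, fun j hj => Nat.find_min hex hj⟩
        refine ⟨((ρ (t : G) - 1 : Module.End k V) ^ m) v, ?_, ?_⟩
        · cases m with
          | zero => simpa using hv
          | succ m => exact hmin m (Nat.lt_succ_self m)
        · intro u hu
          rcases Finset.mem_insert.mp hu with rfl | hu
          · rw [← sub_eq_zero]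
            rw [pow_succ'] at hm
            exact hm
          · have hc : Commute (ρ (u : G)) ((ρ (t : G) - 1 : Module.End k V) ^ m) := by
              refine Commute.pow_right (Commute.sub_right ?_ (Commute.one_right _)) m
              show ρ (u : G) * ρ (t : G) = ρ (t : G) * ρ (u : G)
              rw [← map_mul, ← map_mul, hcomm' _ u.2.1 _ t.2.1]
            show (ρ (u : G) * (ρ (t : G) - 1) ^ m) v = _
            rw [hc.eq, Module.End.mul_apply, hs u hu]
    obtain ⟨v, hv, hvfix⟩ := key Finset.univ
    exact hv (hfix v fun s hs => hvfix ⟨s, hs⟩ (Finset.mem_univ _))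
  · rw [LinearMap.sum_apply, map_sum]
    refine Fintype.sum_equiv (Equiv.mulLeft ⟨s, hs⟩) _ _ fun t => ?_
    rw [← rho_mul]; rfl

/-- In a faithful irreducible representation over a field of positive characteristic, an element of
prime order `p ≥ 5` whose normal closure is a solvable group fixes less than half of the space. -/
theorem two_mul_fixed_lt {k : Type*} [Field k] (ℓ : ℕ) [Fact ℓ.Prime] [CharP k ℓ]
    {V : Type*} [AddCommGroup V] [Module k V] [FiniteDimensional k V] [Nontrivial V]
    {G : Type*} [Group G] [Finite G] [Group.IsSolvable G] [Nontrivial G]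
    (ρ : Representation k G V) (hinj : Function.Injective ρ) (hirr : IsIrredAct ρ)
    {p : ℕ} (hp : p.Prime) (h5 : 5 ≤ p) (x : G) (hxp : x ^ p = 1)
    (hgen : normalClosure ({x} : Set G) = ⊤) :
    2 * finrank k ↥(LinearMap.ker (ρ x - 1)) < finrank k V := by
  classical
  obtain ⟨N, _, hNk, hsum⟩ := exists_sum_eq_zero ℓ ρ hinj hirr
  let K := AlgebraicClosure k
  let ρK : Representation K G (K ⊗[k] V) :=
    { toFun := fun g => (ρ g).baseChange K
      map_one' := by rw [map_one]; exact LinearMap.baseChange_id
      map_mul' := fun g h => by rw [map_mul]; exact LinearMap.baseChange_comp _ _ }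
  have hNK : (Fintype.card N : K) ≠ 0 := by
    rw [← map_natCast (algebraMap k K)]
    exact fun h => hNk ((algebraMap k K).injective (by rw [h, map_zero]))
  have hsumK : (∑ a : N, ρK a) = 0 := by
    show ∑ a : N, LinearMap.baseChangeHom k K V V (ρ a) = 0
    rw [← map_sum, hsum, map_zero]
  have hnK : finrank K (K ⊗[k] V) = finrank k V := Module.finrank_baseChange
  have : Nontrivial (K ⊗[k] V) := Module.nontrivial_of_finrank_pos (R := K)
    (by rw [hnK]; exact Module.finrank_pos)
  have h := two_mul_fixed_lt_of_sum_eq_zero N hNK hp h5 x hxp hgen _ (K ⊗[k] V) ρK hsumK hnK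
  set C := LinearMap.ker (ρ x - 1) with hC
  have hle : finrank k C ≤ finrank K ↥(LinearMap.ker (ρK x - 1)) := by
    have hf : Function.Injective (C.subtype.baseChange K) :=
      Module.Flat.lTensor_preserves_injective_linearMap (M := K) C.subtype C.injective_subtype
    rw [← Module.finrank_baseChange (R := K) (S := k) (M' := C),
      ← LinearMap.finrank_range_of_inj hf]
    refine Submodule.finrank_mono ?_
    rintro _ ⟨w, rfl⟩
    rw [LinearMap.mem_ker]
    induction w using TensorProduct.induction_on with
    | zero => simp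
    | tmul c v =>
      have hv : ρ x v.1 = v.1 := sub_eq_zero.mp (LinearMap.mem_ker.mp v.2)
      show (ρ x).baseChange K (c ⊗ₜ v.1) - c ⊗ₜ v.1 = 0
      rw [LinearMap.baseChange_tmul, hv, sub_self]
    | add a b ha hb => rw [map_add, map_add, ha, hb, add_zero]
  omega

end Cfsg.Agent.Lib.HalfFixed
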