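import Cfsg.Agent.Lib.HalfFixed.Irreducible

/-!
The non-abelian case: weights of `End W` under conjugation by a minimal non-central normal subgroup.
-/

set_option autoImplicit false

namespace Cfsg.Agent.Lib.HalfFixed

open Module Subgroup
open scoped commutatorElement

universe u

variable {K : Type*} [Field K] {W : Type*} [AddCommGroup W] [Module K W]
  {G : Type u} [Group G]

/-- The commutant of a non-trivial operator has dimension more than the square of its fixed space. -/
theorem sq_lt_commutant [FiniteDimensional K W] (T : End K W) (hT : T ≠ 1) (S : Submodule K (End K W))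
    (hS : ∀ ψ : End K W, T * ψ = ψ * T → ψ ∈ S) :
    finrank K ↥(LinearMap.ker (T - 1)) * finrank K ↥(LinearMap.ker (T - 1)) < finrank K S := by
  set C := LinearMap.ker (T - 1) with hC
  set R := LinearMap.range (T - 1) with hR
  have hmemC : ∀ v ∈ C, T v = v := fun v hv => sub_eq_zero.mp (LinearMap.mem_ker.mp hv)
  let L : ((W ⧸ R) →ₗ[K] C) →ₗ[K] End K W :=
    { toFun := fun f => C.subtype ∘ₗ f ∘ₗ R.mkQ
      map_add' := fun f g => by ext; simp
      map_smul' := fun c f => by ext; simp }
  have hL : Function.Injective L := by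
    intro f g h
    refine Submodule.linearMap_qext R (LinearMap.ext fun v => Subtype.ext ?_)
    exact LinearMap.congr_fun h v
  have hle : LinearMap.range L ≤ S := by
    rintro _ ⟨f, rfl⟩
    refine hS _ (LinearMap.ext fun v => ?_)
    have h1 : R.mkQ (T v) = R.mkQ v := (Submodule.Quotient.eq R).mpr ⟨v, rfl⟩
    show T ((f (R.mkQ v)) : W) = ((f (R.mkQ (T v))) : W)
    rw [h1, hmemC _ (f (R.mkQ v)).2]
  have hlt : LinearMap.range L < S := by
    refine lt_of_le_not_ge hle fun hge => ?_
    obtain ⟨f, hf⟩ := hge (hS 1 (by rw [mul_one, one_mul]))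
    apply hT
    ext v
    have : v ∈ C := by
      have := LinearMap.congr_fun hf v
      simp only [Module.End.one_apply] at this
      rw [← this]
      exact (f (R.mkQ v)).2
    exact hmemC v this
  have hfr := Submodule.finrank_lt_finrank_of_lt hlt
  rw [LinearMap.finrank_range_of_inj hL, Module.finrank_linearMap] at hfr
  have hq : finrank K (W ⧸ R) = finrank K C := by
    have h1 := Submodule.finrank_quotient_add_finrank R
    have h2 := LinearMap.finrank_range_add_finrank_ker (T - 1)
    rw [← hR, ← hC] at h2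
    omega
  rwa [hq] at hfr

/-- Non-abelian case. -/
theorem two_mul_fixed_lt_of_nonabelian [IsAlgClosed K] [FiniteDimensional K W] [Nontrivial W]
    [Finite G] [Group.IsSolvable G] (ρ : Representation K G W) (hinj : Function.Injective ρ)
    (hirr : IsIrredAct ρ) {p : ℕ} (hp : p.Prime) (h5 : 5 ≤ p) (x : G) (hxp : x ^ p = 1)
    (hgen : normalClosure ({x} : Set G) = ⊤) (N : Subgroup G) [hN : N.Normal]
    (hnc : ¬ ∀ a ∈ N, ∀ b ∈ N, a * b = b * a) (hder : ⁅N, N⁆ ≤ center G)
    (hmin : ∀ M : Subgroup G, M.Normal → M ≤ N → M ≠ N → M ≤ center G) :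
    2 * finrank K ↥(LinearMap.ker (ρ x - 1)) < finrank K W := by
  classical
  have : Fact p.Prime := ⟨hp⟩
  obtain ⟨P⟩ := Pairing.exists_of_central (ρ := ρ) hirr hder
  let Z : Subgroup N := (center G).subgroupOf N
  have hZmem : ∀ a : N, a ∈ Z ↔ (a : G) ∈ center G := fun a => mem_subgroupOf
  have hcen : ∀ a ∈ N, (∀ b ∈ N, a * b = b * a) → a ∈ center G := by
    intro a ha hab
    refine hmin (N ⊓ centralizer (N : Set G)) inferInstance inf_le_left ?_ ⟨ha, ?_⟩
    · intro h
      exact hnc fun a ha b hb => ((h.symm ▸ ha : a ∈ N ⊓ centralizer (N : Set G)).2 b hb).symm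
    · exact fun b hb => (hab b hb).symm
  have hcommQ : ∀ s t : N ⧸ Z, s * t = t * s := by
    intro s t
    induction s using QuotientGroup.induction_on with
    | _ a =>
      induction t using QuotientGroup.induction_on with
      | _ b =>
        rw [← QuotientGroup.mk_mul, ← QuotientGroup.mk_mul, QuotientGroup.eq, hZmem]
        have : ((a * b)⁻¹ * (b * a) : N) = (⁅b⁻¹, a⁻¹⁆ : N) := by
          rw [commutatorElement_def]; group
        rw [this]
        exact hder (commutator_mem_commutator (b⁻¹).2 (a⁻¹).2)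
  letI instQ : CommGroup (N ⧸ Z) := { (inferInstance : Group (N ⧸ Z)) with mul_comm := hcommQ }
  -- conjugation action
  let φ : G →* MulAut (N ⧸ Z) :=
    { toFun := fun g => QuotientGroup.congr Z Z (MulAut.conjNormal g) (by
        ext a
        constructor
        · rintro ⟨b, hb, rfl⟩
          rw [hZmem]
          show ((MulAut.conjNormal g b : N) : G) ∈ _
          rw [MulAut.conjNormal_apply]
          exact (inferInstance : (center G).Normal).conj_mem _ hb g
        · intro ha
          refine ⟨MulAut.conjNormal g⁻¹ a, ?_, ?_⟩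
          · rw [SetLike.mem_coe, hZmem, MulAut.conjNormal_apply]
            exact (inferInstance : (center G).Normal).conj_mem _ ha g⁻¹
          · ext; simp [mul_assoc])
      map_one' := by
        apply MulEquiv.ext; intro q
        induction q using QuotientGroup.induction_on with
        | _ a => simp
      map_mul' := fun g h => by
        apply MulEquiv.ext; intro q
        induction q using QuotientGroup.induction_on with
        | _ a => simp [map_mul] }
  have hφ : ∀ (g : G) (a : N), φ g (a : N ⧸ Z) = ((MulAut.conjNormal g a : N) : N ⧸ Z) :=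
    fun g a => rfl
  -- the form
  let β : (N ⧸ Z) → (N ⧸ Z) → K := fun s t => P.lam (s.out : N) (t.out : N)
  have hlamZ : ∀ z ∈ N, z ∈ center G → ∀ b ∈ N, P.lam z b = 1 ∧ P.lam b z = 1 := fun z hz hzc b hb =>
    ⟨P.eq_one hz hb (mem_center_iff.mp hzc b).symm, P.eq_one hb hz (mem_center_iff.mp hzc b)⟩
  have hout : ∀ a : N, ∃ z ∈ N, z ∈ center G ∧ (((a : N ⧸ Z)).out : G) = a * z := by
    intro a
    obtain ⟨z, hz⟩ := QuotientGroup.mk_out_eq_mul Z a
    exact ⟨z.1.1, z.1.2, (hZmem _).mp z.2, by rw [hz]; rfl⟩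
  have hβmk : ∀ a b : N, β a b = P.lam a b := by
    intro a b
    obtain ⟨z, hzN, hzc, hz⟩ := hout a
    obtain ⟨w, hwN, hwc, hw⟩ := hout b
    show P.lam _ _ = _
    rw [hz, hw, P.mul_left a.2 hzN (mul_mem b.2 hwN), P.mul_right a.2 b.2 hwN,
      (hlamZ z hzN hzc _ (mul_mem b.2 hwN)).1, (hlamZ w hwN hwc _ a.2).2, mul_one, mul_one]
  have hsurj : ∀ s : N ⧸ Z, ∃ a : N, (a : N ⧸ Z) = s := QuotientGroup.mk_surjective
  have hβl : ∀ s s' t, β (s * s') t = β s t * β s' t := by
    intro s s' t
    obtain ⟨a, rfl⟩ := hsurj s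
    obtain ⟨a', rfl⟩ := hsurj s'
    obtain ⟨b, rfl⟩ := hsurj t
    rw [← QuotientGroup.mk_mul, hβmk, hβmk, hβmk]
    exact P.mul_left a.2 a'.2 b.2
  have hβr : ∀ s t t', β s (t * t') = β s t * β s t' := by
    intro s t t'
    obtain ⟨a, rfl⟩ := hsurj s
    obtain ⟨b, rfl⟩ := hsurj t
    obtain ⟨b', rfl⟩ := hsurj t'
    rw [← QuotientGroup.mk_mul, hβmk, hβmk, hβmk]
    exact P.mul_right a.2 b.2 b'.2
  have hβ1r : ∀ s, β s 1 = 1 := fun s => by
    obtain ⟨a, rfl⟩ := hsurj s
    rw [← QuotientGroup.mk_one, hβmk]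
    exact P.eq_one a.2 N.one_mem (by simp)
  have hβswap : ∀ s t, β s t * β t s = 1 := fun s t => by
    obtain ⟨a, rfl⟩ := hsurj s
    obtain ⟨b, rfl⟩ := hsurj t
    rw [hβmk, hβmk]; exact P.swap a.2 b.2
  have hβ1l : ∀ t, β 1 t = 1 := fun t => by
    have := hβswap 1 t
    rwa [hβ1r, mul_one] at this
  have hβne : ∀ s t, β s t ≠ 0 := fun s t h => by
    have := hβswap s t; rw [h, zero_mul] at this; exact zero_ne_one this
  have hβself : ∀ s, β s s = 1 := fun s => by
    obtain ⟨a, rfl⟩ := hsurj s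
    rw [hβmk]; exact P.eq_one a.2 a.2 rfl
  have hβsymm : ∀ s t, β s t = 1 → β t s = 1 := fun s t h => by
    have := hβswap s t; rwa [h, one_mul] at this
  have hβinv : ∀ g s t, β (φ g s) (φ g t) = β s t := fun g s t => by
    obtain ⟨a, rfl⟩ := hsurj s
    obtain ⟨b, rfl⟩ := hsurj t
    rw [hφ, hφ, hβmk, hβmk, MulAut.conjNormal_apply, MulAut.conjNormal_apply]
    exact P.conj hN g a.2 b.2
  have hnondeg : ∀ t, (∀ s, β s t = 1) → t = 1 := fun t h => by
    obtain ⟨b, rfl⟩ := hsurj t
    rw [QuotientGroup.eq_one_iff, hZmem]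
    exact hcen _ b.2 fun a ha =>
      ((P.eq_one_iff hinj ha b.2).mp (by rw [← hβmk ⟨a, ha⟩ b]; exact h _)).symm
  -- `N / Z` is elementary abelian
  have hQ1 : Nontrivial (N ⧸ Z) := by
    refine QuotientGroup.nontrivial_iff.mpr fun h => hnc fun a ha b hb => ?_
    have : (⟨a, ha⟩ : N) ∈ Z := h ▸ mem_top _
    exact (mem_center_iff.mp ((hZmem _).mp this) b).symm
  obtain ⟨r, hr, hrdvd⟩ := Nat.exists_prime_and_dvd
    (show Nat.card (N ⧸ Z) ≠ 1 from (Finite.one_lt_card (α := N ⧸ Z)).ne')
  have : Fact r.Prime := ⟨hr⟩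
  have hsub : ∀ (S : Subgroup (N ⧸ Z)), (∀ g, ∀ s ∈ S, φ g s ∈ S) → S ≠ ⊤ → S = ⊥ := by
    intro S hinv hS
    let M : Subgroup G := (S.comap (QuotientGroup.mk' Z)).map N.subtype
    have hMn : M.Normal := ⟨by
      rintro _ ⟨a, ha, rfl⟩ g
      refine ⟨MulAut.conjNormal g a, ?_, MulAut.conjNormal_apply g a⟩
      exact hinv g _ ha⟩
    have hMN : M ≠ N := fun h => hS <| eq_top_iff.mpr fun s _ => by
      obtain ⟨a, rfl⟩ := hsurj s
      obtain ⟨b, hb, hba⟩ := (h.symm ▸ a.2 : (a : G) ∈ M)
      have : b = a := Subtype.ext hba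
      exact this ▸ hb
    have hMc := hmin M hMn (map_subtype_le _) hMN
    refine (Subgroup.eq_bot_iff_forall _).mpr fun s hs => ?_
    obtain ⟨a, rfl⟩ := hsurj s
    rw [QuotientGroup.eq_one_iff, hZmem]
    exact hMc ⟨a, hs, rfl⟩
  have hexp : ∀ s : N ⧸ Z, s ^ r = 1 := by
    let S : Subgroup (N ⧸ Z) := (powMonoidHom r).ker
    have hS : S ≠ ⊥ := fun h => by
      obtain ⟨s, hs⟩ := exists_prime_orderOf_dvd_card' r hrdvd
      have : s ∈ S := MonoidHom.mem_ker.mpr (by rw [powMonoidHom_apply, ← hs]; exact pow_orderOf_eq_one s)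
      rw [h, mem_bot] at this
      rw [this, orderOf_one] at hs
      exact hr.ne_one hs.symm
    have hinv : ∀ g, ∀ s ∈ S, φ g s ∈ S := fun g s hs => by
      rw [MonoidHom.mem_ker, powMonoidHom_apply] at hs ⊢
      rw [← map_pow, hs, map_one]
    have hStop : S = ⊤ := by_contra fun h => hS (hsub S hinv h)
    intro s
    exact MonoidHom.mem_ker.mp (hStop ▸ mem_top s : s ∈ S)
  have hPG : IsPGroup r (N ⧸ Z) := fun s => ⟨1, by rw [pow_one]; exact hexp s⟩
  have hβpow : ∀ s t, ∀ n : ℕ, β (s ^ n) t = β s t ^ n := fun s t n => by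
    induction n with
    | zero => rw [pow_zero, pow_zero, hβ1l]
    | succ n ih => rw [pow_succ, pow_succ, hβl, ih]
  have hrK : (r : K) ≠ 0 := by
    intro h0
    have : CharP K r := (CharP.charP_iff_prime_eq_zero hr).mpr h0
    obtain ⟨t, ht⟩ := exists_ne (1 : N ⧸ Z)
    refine ht (hnondeg t fun s => ?_)
    have h1 : (β s t - 1) ^ r = 0 := by
      rw [sub_pow_char, ← hβpow, hexp, hβ1l, one_pow, sub_self]
    exact sub_eq_zero.mp (eq_zero_of_pow_eq_zero h1)
  have : Fintype (N ⧸ Z) := Fintype.ofFinite _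
  obtain ⟨e, he⟩ := hPG.exists_card_eq
  have hQK : (Fintype.card (N ⧸ Z) : K) ≠ 0 := by
    rw [← Nat.card_eq_fintype_card, he, Nat.cast_pow]
    exact pow_ne_zero _ hrK
  -- the operators on `End W`
  let cj : G → (End K W →ₗ[K] End K W) :=
    fun g => LinearMap.mulLeft K (ρ g) ∘ₗ LinearMap.mulRight K (ρ g⁻¹)
  have hcj : ∀ g ψ, cj g ψ = ρ g * ψ * ρ g⁻¹ := fun g ψ => by simp [cj, mul_assoc]
  have hcjmul : ∀ g h ψ, cj (g * h) ψ = cj g (cj h ψ) := fun g h ψ => by
    simp only [hcj, mul_inv_rev, map_mul, mul_assoc]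
  have hcjcen : ∀ z ∈ center G, ∀ ψ, cj z ψ = ψ := fun z hz ψ => by
    obtain ⟨c, hc⟩ := exists_scalar ρ hirr hz
    have h1 : ρ z * ρ z⁻¹ = 1 := by rw [← map_mul, mul_inv_cancel, map_one]
    rw [hcj, hc, smul_mul_assoc, one_mul, ← mul_smul_one c ψ]
    rw [mul_assoc, ← hc, h1, mul_one]
  let E : (N ⧸ Z) → Submodule K (End K W) :=
    fun t => ⨅ a : N, Module.End.eigenspace (cj a) (β (a : N ⧸ Z) t)
  have hmem : ∀ t ψ, ψ ∈ E t ↔ ∀ a : N, cj a ψ = β (a : N ⧸ Z) t • ψ := fun t ψ => by
    simp [E, Module.End.mem_eigenspace_iff]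
  have hχinj : Function.Injective fun (t : N ⧸ Z) (a : N) => β (a : N ⧸ Z) t := by
    intro t t' h
    have h1 : ∀ s, β s t = β s t' := fun s => by
      obtain ⟨a, rfl⟩ := hsurj s; exact congrFun h a
    refine mul_inv_eq_one.mp (hnondeg _ fun s => ?_)
    have h2 : β s t' * β s t'⁻¹ = 1 := by rw [← hβr, mul_inv_cancel, hβ1r]
    rw [hβr, h1, h2]
  have hindep : iSupIndep E :=
    iSupIndep_weight (fun a : N => cj a) _ hχinj E (fun t ψ hψ a => (hmem t ψ).mp hψ a)
  have horth : ∀ s : N ⧸ Z, s ≠ 1 → ∑ t, β s t = 0 := by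
    intro s hs
    obtain ⟨t₀, ht₀⟩ : ∃ t₀, β s t₀ ≠ 1 := by
      by_contra h
      push Not at h
      exact hs (hnondeg s fun t => hβsymm _ _ (h t))
    have h1 : β s t₀ * ∑ t, β s t = ∑ t, β s t := by
      rw [Finset.mul_sum]
      exact Fintype.sum_equiv (Equiv.mulLeft t₀) _ _ fun t => (hβr s t₀ t).symm
    by_contra h2
    exact ht₀ ((mul_eq_right₀ h2).mp h1)
  have hsup : iSup E = ⊤ := by
    refine eq_top_iff.mpr fun ψ _ => ?_
    let pr : (N ⧸ Z) → End K W := fun t => ∑ s : N ⧸ Z, β t s • cj (s.out : N) ψ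
    have hpr : ∀ t, pr t ∈ E t := by
      intro t
      rw [hmem]
      intro a
      rw [map_sum, Finset.smul_sum]
      refine Fintype.sum_equiv (Equiv.mulLeft (a : N ⧸ Z)) _ _ fun s => ?_
      simp only [Equiv.coe_mulLeft, map_smul, smul_smul]
      obtain ⟨b, rfl⟩ := hsurj s
      obtain ⟨z, hzN, hzc, hz⟩ := hout b
      obtain ⟨w, hwN, hwc, hw⟩ := hout (a * b)
      rw [← QuotientGroup.mk_mul, hz, hw, hcjmul (b : G) z, hcjmul ((a * b : N) : G) w,
        hcjcen z hzc, hcjcen w hwc, QuotientGroup.mk_mul, hβr, ← hcjmul, Subgroup.coe_mul]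
      congr 1
      rw [← mul_assoc, hβswap, one_mul]
    have hsum : ∑ t, pr t = (Fintype.card (N ⧸ Z) : K) • ψ := by
      rw [Finset.sum_comm, Finset.sum_eq_single 1]
      · rw [← Finset.sum_smul]
        obtain ⟨z, hzN, hzc, hz⟩ := hout 1
        rw [QuotientGroup.mk_one] at hz
        rw [hz, Subgroup.coe_one, one_mul, hcjcen z hzc,
          Finset.sum_congr rfl (fun t _ => hβ1r t), Finset.sum_const, Finset.card_univ, nsmul_one]
      · intro s _ hs
        rw [← Finset.sum_smul]
        have : ∑ t, β t s = 0 := by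
          have h := horth s⁻¹ (inv_ne_one.mpr hs)
          rw [← h]
          refine Finset.sum_congr rfl fun t _ => ?_
          have h2 : β s⁻¹ t * β s t = 1 := by rw [← hβl, inv_mul_cancel, hβ1l]
          have h3 := hβswap s t
          have := mul_right_cancel₀ (hβne s t) (h2.trans (by rw [mul_comm] at h3; exact h3.symm))
          exact this.symm
        rw [this, zero_smul]
      · simp
    rw [← inv_smul_smul₀ hQK ψ, ← hsum]
    exact Submodule.smul_mem _ _ (Submodule.sum_mem _ fun t _ => Submodule.mem_iSup_of_mem t (hpr t))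
  have hshift : ∀ (a : N) t, ∀ ψ ∈ E t, ρ a * ψ ∈ E ((a : N ⧸ Z) * t) := by
    intro a t ψ hψ
    rw [hmem] at hψ ⊢
    intro b
    rw [hβr, hβmk]
    have h1 : cj b (ρ a * ψ) = cj b (ρ a) * cj b ψ := by
      simp only [hcj]
      have : ρ (b : G)⁻¹ * ρ b = 1 := by rw [← map_mul, inv_mul_cancel, map_one]
      simp only [mul_assoc]
      rw [← mul_assoc (ρ (b : G)⁻¹) (ρ b), this, one_mul]
    have h2 : cj b (ρ a) = P.lam b a • ρ a := by
      rw [hcj, P.spec b b.2 a a.2, smul_mul_assoc, mul_assoc, ← map_mul,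
        mul_inv_cancel, map_one, mul_one]
    rw [h1, h2, hψ b, smul_mul_assoc, mul_smul_comm, smul_smul]
  set d := finrank K (E 1) with hd
  have hmulinj : ∀ a : N, Function.Injective fun ψ : End K W => ρ a * ψ := fun a ψ ψ' h => by
    have := congrArg (fun f => ρ (a : G)⁻¹ * f) h
    simpa [← mul_assoc, ← map_mul] using this
  have hdim : ∀ t, finrank K (E t) = d := by
    intro t
    obtain ⟨a, rfl⟩ := hsurj t
    have key : ∀ (a : N) t t', (a : N ⧸ Z) * t = t' → finrank K (E t) ≤ finrank K (E t') :=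
      fun a t t' he => LinearMap.finrank_le_finrank_of_injective
        (f := (LinearMap.mulLeft K (ρ (a : G))).restrict
          (fun ψ hψ => he ▸ hshift a t ψ hψ : ∀ ψ ∈ E t, LinearMap.mulLeft K (ρ (a : G)) ψ ∈ E t'))
        (fun ψ ψ' h => Subtype.ext (hmulinj a (congrArg Subtype.val h)))
    refine le_antisymm (key a⁻¹ _ _ ?_) (key a _ _ (mul_one _))
    rw [QuotientGroup.mk_inv, inv_mul_cancel]
  let σ : Equiv.Perm (N ⧸ Z) := (φ x).toEquiv
  have hσpow : ∀ i : ℕ, ∀ s, (σ ^ i) s = φ (x ^ i) s := by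
    intro i
    induction i with
    | zero => intro s; simp
    | succ i ih => intro s; rw [pow_succ', Equiv.Perm.mul_apply, ih, pow_succ', map_mul]; rfl
  have hσ : σ ^ p = 1 := Equiv.ext fun s => by rw [hσpow, hxp, map_one]; rfl
  obtain ⟨R, hR, hRcard⟩ := exists_cycle_reps hp σ hσ
  have hX : ∀ t, ∀ ψ ∈ E t, cj x ψ ∈ E (σ t) := by
    intro t ψ hψ
    rw [hmem] at hψ ⊢
    intro a
    have h1 := hψ (MulAut.conjNormal x⁻¹ a)
    rw [← hcjmul, show (a : G) * x = x * (MulAut.conjNormal x⁻¹ a : N) by simp [mul_assoc],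
      hcjmul, h1, map_smul]
    congr 1
    conv_rhs => rw [← hβinv x⁻¹]
    congr 1
    show t = (φ x⁻¹) ((φ x) t)
    rw [map_inv, MulAut.inv_apply, MulEquiv.symm_apply_apply]
  obtain ⟨hn2, hfix⟩ := finrank_fixed_le E hindep hsup d hdim (cj x) σ hX R hR
  rw [show finrank K (End K W) = finrank K W * finrank K W from Module.finrank_linearMap K K W W] at hn2
  set n := finrank K W with hn
  set f := finrank K ↥(LinearMap.ker (ρ x - 1)) with hf
  have hxne : x ≠ 1 := by
    rintro rfl
    refine hnc fun a ha b hb => ?_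
    have : (⊥ : Subgroup G) = ⊤ := top_le_iff.mp (hgen ▸ normalClosure_le_normal (by simp))
    have ha' : a ∈ (⊥ : Subgroup G) := this ▸ mem_top a
    rw [mem_bot] at ha'; simp [ha']
  have hcomm_lt : f * f < finrank K ↥(LinearMap.ker (cj x - 1)) := by
    refine sq_lt_commutant (ρ x) (fun h => hxne (hinj (h.trans (map_one ρ).symm))) _ fun ψ hψ => ?_
    rw [LinearMap.mem_ker, LinearMap.sub_apply, sub_eq_zero, Module.End.one_apply, hcj, hψ, mul_assoc,
      ← map_mul, mul_inv_cancel, map_one, mul_one]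
  -- fixed points of `x` on `N / Z`
  let C : Subgroup (N ⧸ Z) := (φ x).toMonoidHom.eqLocus (MonoidHom.id _)
  have hCmem : ∀ s, s ∈ C ↔ φ x s = s := fun s => Iff.rfl
  have hfilter : (Finset.univ.filter fun s => σ s = s).card = Nat.card C := by
    rw [← Fintype.card_subtype, ← Nat.card_eq_fintype_card]; rfl
  rw [hfilter] at hRcard
  set c := Nat.card C with hc
  have hcard : Fintype.card (N ⧸ Z) = C.index * c := by
    rw [hc, ← Nat.card_eq_fintype_card, mul_comm, card_mul_index]
  obtain ⟨k, hk⟩ := hPG.index C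
  have hCtop : C ≠ ⊤ := by
    intro hC
    apply hnc
    intro a ha b hb
    have hker : normalClosure ({x} : Set G) ≤ φ.ker := normalClosure_le_normal <|
      Set.singleton_subset_iff.mpr (MulEquiv.ext fun s => (hCmem s).mp (hC ▸ mem_top s))
    have hall : ∀ g s, φ g s = s := fun g s => by
      have : g ∈ φ.ker := hker (hgen.symm ▸ mem_top g)
      rw [MonoidHom.mem_ker.mp this]; rfl
    by_contra hab
    let S : Subgroup (N ⧸ Z) := zpowers (⟨a, ha⟩ : N)
    have hS : S ≠ ⊤ := by
      intro hS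
      apply hab
      rw [← P.eq_one_iff hinj ha hb, ← hβmk ⟨a, ha⟩ ⟨b, hb⟩]
      have hmemb : ((⟨b, hb⟩ : N) : N ⧸ Z) ∈ S := hS ▸ mem_top _
      obtain ⟨i, hi⟩ := (mem_powers_iff_mem_zpowers.mpr hmemb : _ ∈ Submonoid.powers _)
      apply hβsymm
      rw [← hi]
      simp only
      rw [hβpow, hβself, one_pow]
    have hbot := hsub S (fun g s hs => by rw [hall]; exact hs) hS
    have : ((⟨a, ha⟩ : N) : N ⧸ Z) = 1 := by
      rw [← mem_bot, ← hbot]; exact mem_zpowers _
    rw [QuotientGroup.eq_one_iff, hZmem] at this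
    exact hab (mem_center_iff.mp this b).symm
  have hk2 : 2 ≤ k := by
    by_contra hk'
    have hk1 : C.index = r := by
      interval_cases k
      · exact absurd (index_eq_one.mp (by simpa using hk)) hCtop
      · simpa using hk
    let δ : (N ⧸ Z) →* (N ⧸ Z) :=
      { toFun := fun s => φ x s * s⁻¹
        map_one' := by rw [map_one, inv_one, one_mul]
        map_mul' := fun s t => by rw [map_mul, mul_inv]; exact mul_mul_mul_comm _ _ _ _ }
    have hδker : δ.ker = C := by
      ext s; rw [MonoidHom.mem_ker, hCmem]; exact mul_inv_eq_one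
    have hD : Nat.card δ.range = r := by rw [← index_ker, hδker, hk1]
    have hcyc : IsCyclic δ.range := isCyclic_of_prime_card hD
    have hperp : ∀ s ∈ C, ∀ t, β s (δ t) = 1 := by
      intro s hs t
      have h1 := hβinv x s t
      rw [(hCmem s).mp hs, show φ x t = δ t * t by simp [δ], hβr] at h1
      exact (mul_eq_right₀ (hβne s t)).mp h1
    have htop : ∀ s, s ∉ C → ∀ t, ∃ u ∈ C, ∃ i : ℕ, t = u * s ^ i := by
      intro s hs t
      have hq : (C ⊔ zpowers s) = ⊤ := by
        have h1 := index_dvd_of_le (le_sup_left : C ≤ C ⊔ zpowers s)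
        rw [hk1] at h1
        rcases (Nat.dvd_prime hr).mp h1 with h | h
        · exact index_eq_one.mp h
        · exfalso
          apply hs
          have hle : C ⊔ zpowers s ≤ C := by
            have h2 := relIndex_mul_index (le_sup_left : C ≤ C ⊔ zpowers s)
            rw [h, hk1] at h2
            exact relIndex_eq_one.mp (Nat.eq_of_mul_eq_mul_right hr.pos (by rw [h2, one_mul]))
          exact hle (mem_sup_right (mem_zpowers s))
      have : t ∈ C ⊔ zpowers s := hq ▸ mem_top t
      obtain ⟨u, hu, w, hw, rfl⟩ := mem_sup.mp this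
      obtain ⟨i, rfl⟩ := mem_powers_iff_mem_zpowers.mpr hw
      exact ⟨u, hu, i, rfl⟩
    have hDC : ∀ t, δ t ∈ C := by
      intro t
      by_contra ht
      apply ht
      have : δ t = 1 := by
        refine hnondeg _ fun s => ?_
        obtain ⟨u, hu, i, rfl⟩ := htop _ ht s
        rw [hβl, hperp u hu, hβpow, hβself, one_pow, one_mul]
      rw [this]; exact C.one_mem
    obtain ⟨q₀, hq₀⟩ : ∃ q₀, q₀ ∉ C := by
      by_contra h; push Not at h; exact hCtop (eq_top_iff.mpr fun s _ => h s)
    set a := δ q₀ with ha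
    have ha1 : a ≠ 1 := fun h => hq₀ (hδker ▸ MonoidHom.mem_ker.mpr h)
    have hσδ : φ x q₀ = a * q₀ := by simp [a, δ]
    have hiter : ∀ i : ℕ, φ (x ^ i) q₀ = a ^ i * q₀ := by
      intro i
      induction i with
      | zero => simp
      | succ i ih =>
        rw [pow_succ', map_mul, MulAut.mul_apply, ih, map_mul, map_pow, (hCmem a).mp (hDC q₀), hσδ,
          pow_succ, mul_assoc]
    have hap : a ^ p = 1 := by
      have := hiter p
      rw [hxp, map_one, MulAut.one_apply] at this
      exact (eq_comm.trans mul_eq_right).mp this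
    have hrp : r = p := by
      by_contra hrp
      apply ha1
      have hg := (pow_gcd_eq_one (a := a)).mpr ⟨hexp a, hap⟩
      rwa [(Nat.coprime_primes hr hp).mpr hrp, pow_one] at hg
    subst hrp
    have hperpiff : ∀ s, β s a = 1 → s ∈ C := by
      intro s hs
      by_contra hsC
      refine ha1 (hnondeg a fun t => ?_)
      obtain ⟨u, hu, i, rfl⟩ := htop s hsC t
      rw [hβl, hperp u hu, hβpow, hs, one_pow, one_mul]
    obtain ⟨g, hg⟩ : ∃ g, φ g a ∉ C := by
      by_contra h
      push Not at h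
      let S : Subgroup (N ⧸ Z) := ⨅ g : G, C.comap (φ g).toMonoidHom
      have hSinv : ∀ g, ∀ s ∈ S, φ g s ∈ S := by
        intro g s hs
        rw [mem_iInf] at hs ⊢
        intro g'
        have := hs (g' * g)
        rw [map_mul] at this
        exact this
      have hStop : S ≠ ⊤ := fun hS => hq₀ (by
        have := mem_iInf.mp (hS ▸ mem_top q₀ : q₀ ∈ S) 1
        rwa [map_one] at this)
      have : a ∈ S := mem_iInf.mpr h
      rw [hsub S hSinv hStop, mem_bot] at this
      exact ha1 this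
    set b := φ g a with hb
    have hga : φ g⁻¹ a ∉ C := by
      intro hC
      apply hg
      apply hperpiff
      have h1 := hperp _ hC q₀
      rw [← ha] at h1
      rw [← hβinv g, map_inv, MulAut.inv_apply, MulEquiv.apply_symm_apply] at h1
      exact hβsymm _ _ h1
    have hlogD : ∀ t, ∃ j : ℕ, δ t = a ^ j := by
      intro t
      let a' : δ.range := ⟨a, q₀, rfl⟩
      have ha' : a' ≠ 1 := fun h => ha1 (congrArg Subtype.val h)
      have hmem' : (⟨δ t, t, rfl⟩ : δ.range) ∈ zpowers a' :=
        (zpowers_eq_top_of_prime_card hD ha').symm ▸ mem_top _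
      obtain ⟨j, hj⟩ := mem_powers_iff_mem_zpowers.mpr hmem'
      exact ⟨j, (congrArg Subtype.val hj).symm⟩
    obtain ⟨i, hi⟩ := hlogD b
    obtain ⟨j, hj⟩ := hlogD (φ g⁻¹ a)
    have hpw : ∀ (s : N ⧸ Z) (m : ℕ), s ^ (m % r) = s ^ m := fun s m =>
      (pow_eq_pow_mod m (hexp s)).symm
    let v : ZMod r × ZMod r → N ⧸ Z := fun q => a ^ q.1.val * b ^ q.2.val
    have hvlin : ∀ s t s' t', v (s, t) * v (s', t') = v (s + s', t + t') := by
      intro s t s' t'
      simp only [v, ZMod.val_add, hpw, pow_add]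
      exact mul_mul_mul_comm _ _ _ _
    have hv : Function.Injective v := by
      rintro ⟨s, t⟩ ⟨s', t'⟩ h
      have h0 : v (s - s', t - t') = 1 := by
        have := hvlin (s - s') (t - t') s' t'
        rw [sub_add_cancel, sub_add_cancel, h] at this
        exact mul_eq_right.mp this
      have hbC : b ^ (t - t').val ∈ C := by
        rw [eq_inv_of_mul_eq_one_right (a := a ^ (s - s').val) h0]
        exact C.inv_mem (C.pow_mem (hDC q₀) _)
      have ht : (t - t').val = 0 := by
        by_contra ht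
        apply hg
        have hco : Nat.Coprime (t - t').val r := by
          rw [Nat.coprime_comm, hr.coprime_iff_not_dvd]
          exact Nat.not_dvd_of_pos_of_lt (Nat.pos_of_ne_zero ht) (ZMod.val_lt _)
        obtain ⟨m, -, hm⟩ := Nat.exists_mul_mod_eq_one_of_coprime hco hr.one_lt
        have := C.pow_mem hbC m
        rwa [← pow_mul, ← hpw, hm, pow_one] at this
      have hs : (s - s').val = 0 := by
        simp only [v, ht, pow_zero, mul_one] at h0
        by_contra hs
        have h1 := orderOf_dvd_of_pow_eq_one h0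
        rw [orderOf_eq_prime (hexp a) ha1] at h1
        exact Nat.not_dvd_of_pos_of_lt (Nat.pos_of_ne_zero hs) (ZMod.val_lt _) h1
      rw [ZMod.val_eq_zero, sub_eq_zero] at hs ht
      rw [hs, ht]
    have hpowcast : ∀ (s : N ⧸ Z) (m : ℕ), s ^ (m : ZMod r).val = s ^ m := fun s m => by
      rw [ZMod.val_natCast, hpw]
    have hix : (i : ZMod r) ≠ 0 := by
      intro h0
      have := hpowcast a i
      rw [h0, ZMod.val_zero, pow_zero, ← hi] at this
      exact hg (hδker ▸ MonoidHom.mem_ker.mpr this.symm)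
    have hjx : (j : ZMod r) ≠ 0 := by
      intro h0
      have := hpowcast a j
      rw [h0, ZMod.val_zero, pow_zero, ← hj] at this
      exact hga (hδker ▸ MonoidHom.mem_ker.mpr this.symm)
    have hya : φ (g * x * g⁻¹) a = a * b ^ j := by
      rw [map_mul, map_mul, MulAut.mul_apply, MulAut.mul_apply,
        show φ x (φ g⁻¹ a) = δ (φ g⁻¹ a) * φ g⁻¹ a by simp [δ], hj, map_mul, map_pow, ← hb,
        map_inv, MulAut.inv_apply, MulEquiv.apply_symm_apply, mul_comm]
    have hyb : φ (g * x * g⁻¹) b = b := by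
      rw [map_mul, map_mul, MulAut.mul_apply, MulAut.mul_apply, hb, map_inv, MulAut.inv_apply,
        MulEquiv.symm_apply_apply, (hCmem a).mp (hDC q₀)]
    refine not_isSolvable_of_transvections φ h5 hv hix hjx x (g * x * g⁻¹) ?_ ?_ inferInstance
    · intro s t
      have hxb : φ x b = a ^ i * b := by rw [← hi]; simp [δ]
      show φ x (a ^ s.val * b ^ t.val) = _
      rw [map_mul, map_pow, map_pow, (hCmem a).mp (hDC q₀), hxb, mul_pow, ← pow_mul, ← mul_assoc,
        ← pow_add]
      simp only [upMat, v, Matrix.cons_val', Matrix.cons_val_zero, Matrix.cons_val_one,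
        Matrix.cons_val_fin_one, Matrix.of_apply, one_mul, zero_mul, zero_add]
      congr 1
      rw [← hpowcast a (s.val + i * t.val)]
      simp [ZMod.natCast_zmod_val]
    · intro s t
      show φ _ (a ^ s.val * b ^ t.val) = _
      rw [map_mul, map_pow, map_pow, hya, hyb, mul_pow, ← pow_mul, mul_assoc, ← pow_add]
      simp only [lowMat, v, Matrix.cons_val', Matrix.cons_val_zero, Matrix.cons_val_one,
        Matrix.cons_val_fin_one, Matrix.of_apply, one_mul, zero_mul, add_zero]
      congr 1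
      rw [← hpowcast b (j * s.val + t.val)]
      simp [ZMod.natCast_zmod_val]
  -- congruence
  have hcong : r ≠ p → C.index * c ≡ c [MOD p] := by
    intro _
    have hpg : IsPGroup p (zpowers σ) := by
      refine IsPGroup.iff_card.mpr ?_
      obtain ⟨m, -, hm⟩ := (Nat.dvd_prime_pow hp).mp
        (show orderOf σ ∣ p ^ 1 by rw [pow_one]; exact orderOf_dvd_of_pow_eq_one hσ)
      exact ⟨m, by rw [Nat.card_zpowers, hm]⟩
    have h := hpg.card_modEq_card_fixedPoints (N ⧸ Z)
    have hfp : Nat.card (MulAction.fixedPoints (zpowers σ) (N ⧸ Z)) = c := by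
      refine Nat.card_congr (Equiv.subtypeEquivRight fun s => ?_)
      constructor
      · intro hs; exact hs ⟨σ, mem_zpowers σ⟩
      · rintro hs ⟨τ, hτ⟩
        have : zpowers σ ≤ MulAction.stabilizer (Equiv.Perm (N ⧸ Z)) s := zpowers_le.mpr hs
        exact this hτ
    rw [hfp, Nat.card_eq_fintype_card, hcard] at h
    exact h
  have hcpow : ∃ j, c = r ^ j := (hPG.to_subgroup C).exists_card_eq
  rw [hcard] at hRcard hn2
  by_contra hcon
  rw [not_lt] at hcon
  refine false_of_index_small hp h5 hr hk hk2 hcong hcpow ?_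
  have h1 : f * f + 1 ≤ d * R.card := (Nat.succ_le_of_lt hcomm_lt).trans hfix
  have h2 : n * n < 4 * (d * R.card) := by nlinarith
  have hd0 : 0 < d := by
    rcases Nat.eq_zero_or_pos d with h | h
    · rw [h, zero_mul] at h2; omega
    · exact h
  rw [hn2] at h2
  have h3 : C.index * c < 4 * R.card :=
    Nat.lt_of_mul_lt_mul_left (a := d) (by linarith)
  calc p * (C.index * c) < p * (4 * R.card) := Nat.mul_lt_mul_of_pos_left h3 hp.pos
    _ = 4 * (p * R.card) := by ring
    _ ≤ _ := Nat.mul_le_mul_left 4 hRcard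

/-- The fixed space bound for a faithful irreducible representation over an algebraically closed
field. -/
theorem two_mul_fixed_lt_of_irred [IsAlgClosed K] [FiniteDimensional K W] [Nontrivial W]
    [Finite G] [Group.IsSolvable G] [Nontrivial G] (ρ : Representation K G W)
    (hinj : Function.Injective ρ)
    (hirr : IsIrredAct ρ) {p : ℕ} (hp : p.Prime) (h5 : 5 ≤ p) (x : G) (hxp : x ^ p = 1)
    (hgen : normalClosure ({x} : Set G) = ⊤) :
    2 * finrank K ↥(LinearMap.ker (ρ x - 1)) < finrank K W := by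
  classical
  have hxne : x ≠ 1 := by
    rintro rfl
    have : (⊥ : Subgroup G) = ⊤ := top_le_iff.mp (hgen ▸ normalClosure_le_normal (by simp))
    exact bot_ne_top this
  by_cases hxc : x ∈ center G
  · obtain ⟨c, hc⟩ := exists_scalar ρ hirr hxc
    have hc1 : c ≠ 1 := fun h => hxne (hinj (by rw [hc, h, one_smul, map_one]))
    have : LinearMap.ker (ρ x - 1) = ⊥ := by
      refine LinearMap.ker_eq_bot'.mpr fun v hv => ?_
      rw [hc, LinearMap.sub_apply, LinearMap.smul_apply, Module.End.one_apply] at hv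
      have : (c - 1) • v = 0 := by rw [sub_smul, one_smul, hv]
      exact (smul_eq_zero.mp this).resolve_left (sub_ne_zero.mpr hc1)
    rw [this, finrank_bot, mul_zero]
    exact Module.finrank_pos
  have hex : ∃ N : Subgroup G, N.Normal ∧ ¬ N ≤ centralizer {x} := ⟨⊤, inferInstance, fun h =>
    hxc (mem_center_iff.mpr fun g => mem_centralizer_singleton_iff.mp (h (mem_top g)))⟩
  obtain ⟨N, ⟨hN, hNx⟩, hNmin⟩ := Set.Finite.exists_minimal
    (Set.toFinite {N : Subgroup G | N.Normal ∧ ¬ N ≤ centralizer {x}}) hex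
  have hmin : ∀ M : Subgroup G, M.Normal → M ≤ N → M ≠ N → M ≤ center G := by
    intro M hM hle hne
    have hMx : M ≤ centralizer {x} := by
      by_contra h
      exact hne (le_antisymm hle (hNmin ⟨hM, h⟩ hle))
    have hcl : normalClosure ({x} : Set G) ≤ centralizer (M : Set G) :=
      normalClosure_le_normal (Set.singleton_subset_iff.mpr fun m hm =>
        mem_centralizer_singleton_iff.mp (hMx hm))
    intro m hm
    exact mem_center_iff.mpr fun g => (hcl (hgen.symm ▸ mem_top g) m hm).symm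
  have hxN : ¬ ∀ a ∈ N, x * a = a * x := fun h => hNx fun a ha =>
    mem_centralizer_singleton_iff.mpr (h a ha).symm
  by_cases hab : ∀ a ∈ N, ∀ b ∈ N, a * b = b * a
  · exact two_mul_fixed_lt_of_abelian ρ hinj hirr hp h5 x hxp hgen N hab hxN
  have hder : ⁅N, N⁆ ≠ N := by
    intro h
    have : Nontrivial N := by
      rw [Subgroup.nontrivial_iff_ne_bot]
      intro h'; exact hNx (h' ▸ bot_le)
    have hlt := IsSolvable.commutator_lt_top_of_nontrivial N
    apply hlt.ne
    apply Subgroup.map_injective (N.subtype_injective)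
    rw [← MonoidHom.range_eq_map, Subgroup.range_subtype, commutator_def, Subgroup.map_commutator,
      ← MonoidHom.range_eq_map, Subgroup.range_subtype, h]
  exact two_mul_fixed_lt_of_nonabelian ρ hinj hirr hp h5 x hxp hgen N hab
    (hmin _ inferInstance (commutator_le_self N) hder) hmin

end Cfsg.Agent.Lib.HalfFixed
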