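import Mathlib

/-!
Weight spaces and fixed spaces of operators permuting them.
-/

set_option autoImplicit false

namespace Cfsg.Agent.Lib.HalfFixed

open Module

universe uΩ

/-- A set of cycle representatives of a permutation of prime order. -/
theorem exists_cycle_reps {Ω : Type*} [Fintype Ω] [DecidableEq Ω] {p : ℕ} (hp : p.Prime)
    (σ : Equiv.Perm Ω) (hσ : σ ^ p = 1) :
    ∃ R : Finset Ω, (∀ ω, ∃ r ∈ R, ∃ i : ℕ, (σ ^ i) r = ω) ∧
      p * R.card ≤ Fintype.card Ω + (p - 1) * (Finset.univ.filter fun ω => σ ω = ω).card := by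
  classical
  let S := Equiv.Perm.SameCycle.setoid σ
  let R : Finset Ω := Finset.univ.image fun ω => (Quotient.mk S ω).out
  have hR : ∀ r ∈ R, ∀ r' ∈ R, σ.SameCycle r r' → r = r' := by
    intro r hr r' hr' h
    obtain ⟨a, -, rfl⟩ := Finset.mem_image.mp hr
    obtain ⟨b, -, rfl⟩ := Finset.mem_image.mp hr'
    have := Quotient.sound (s := S) h
    rw [Quotient.out_eq, Quotient.out_eq] at this
    rw [this]
  refine ⟨R, fun ω => ⟨_, Finset.mem_image_of_mem _ (Finset.mem_univ ω), ?_⟩, ?_⟩
  · exact (Quotient.exact (s := S) (Quotient.out_eq (Quotient.mk S ω))).exists_nat_pow_eq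
  set R₁ := R.filter fun r => σ r = r with hR₁
  set R₂ := R.filter fun r => ¬ σ r = r with hR₂
  have hsplit : R₁.card + R₂.card = R.card := Finset.card_filter_add_card_filter_not _
  have h1 : R₁.card ≤ (Finset.univ.filter fun ω => σ ω = ω).card := by
    refine Finset.card_le_card fun r hr => ?_
    simp only [hR₁, Finset.mem_filter] at hr
    simp [hr.2]
  have h2 : R₁.card + p * R₂.card ≤ Fintype.card Ω := by
    have hinj : Set.InjOn (fun q : Ω × ℕ => (σ ^ q.2) q.1) ↑(R₂ ×ˢ Finset.range p) := by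
      rintro ⟨r, i⟩ hri ⟨r', j⟩ hrj h
      simp only [Finset.coe_product, Set.mem_prod, Finset.mem_coe, Finset.mem_range, hR₂,
        Finset.mem_filter] at hri hrj
      simp only at h
      have hsame : σ.SameCycle r r' :=
        Equiv.Perm.sameCycle_pow_left.mp
          (Equiv.Perm.sameCycle_pow_right.mp (by rw [h]))
      obtain rfl := hR r hri.1.1 r' hrj.1.1 hsame
      have : Fact p.Prime := ⟨hp⟩
      have hper : Function.IsPeriodicPt (⇑σ) p r := by
        show (⇑σ)^[p] r = r
        rw [← Equiv.Perm.coe_pow, hσ, Equiv.Perm.coe_one, id]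
      have hmin : Function.minimalPeriod (⇑σ) r = p :=
        Function.minimalPeriod_eq_prime hper (fun hf => hri.1.2 hf)
      refine Prod.ext rfl (Function.iterate_injOn_Iio_minimalPeriod (f := ⇑σ) (x := r) ?_ ?_ ?_)
      · simpa [hmin] using hri.2
      · simpa [hmin] using hrj.2
      · simpa [Equiv.Perm.coe_pow] using h
    have hdisj : Disjoint R₁ ((R₂ ×ˢ Finset.range p).image fun q => (σ ^ q.2) q.1) := by
      rw [Finset.disjoint_left]
      intro r hr hr'
      obtain ⟨⟨s, i⟩, hq, rfl⟩ := Finset.mem_image.mp hr'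
      simp only [Finset.mem_product, hR₂, Finset.mem_filter] at hq
      simp only [hR₁, Finset.mem_filter] at hr
      have hs : s = (σ ^ i) s := hR s hq.1.1 _ hr.1
        (Equiv.Perm.sameCycle_pow_right.mpr (Equiv.Perm.SameCycle.refl σ s))
      apply hq.1.2
      calc σ s = σ ((σ ^ i) s) := by rw [← hs]
        _ = (σ ^ i) s := hr.2
        _ = s := hs.symm
    have := Finset.card_le_univ (R₁ ∪ (R₂ ×ˢ Finset.range p).image fun q => (σ ^ q.2) q.1)
    rw [Finset.card_union_of_disjoint hdisj, Finset.card_image_of_injOn hinj, Finset.card_product,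
      Finset.card_range, mul_comm] at this
    exact this
  obtain ⟨p', rfl⟩ : ∃ p', p = p' + 1 := ⟨p - 1, by have := hp.pos; omega⟩
  have h3 : p' * R₁.card ≤ p' * (Finset.univ.filter fun ω => σ ω = ω).card :=
    Nat.mul_le_mul_left _ h1
  simp only [Nat.add_sub_cancel] at *
  nlinarith [hsplit, h2, h3]

variable {K U : Type*} [Field K] [AddCommGroup U] [Module K U]

/-- Simultaneous eigenspaces for pairwise distinct eigenvalue functions are independent. -/
theorem iSupIndep_weight {Ω ι : Type*} (T : ι → End K U) (χ : Ω → ι → K)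
    (hχ : Function.Injective χ) (E : Ω → Submodule K U)
    (hE : ∀ ω, ∀ v ∈ E ω, ∀ i, T i v = χ ω i • v) : iSupIndep E := by
  classical
  have key : ∀ (n : ℕ) (s : Finset Ω), s.card ≤ n → ∀ v : Ω → U, (∀ ω ∈ s, v ω ∈ E ω) →
      ∑ ω ∈ s, v ω = 0 → ∀ ω ∈ s, v ω = 0 := by
    intro n
    induction n with
    | zero =>
      intro s hs v _ _ ω hω
      exact absurd (Finset.card_pos.mpr ⟨ω, hω⟩) (by omega)
    | succ n ih =>
      intro s hs v hv hsum
      by_cases hone : ∀ a ∈ s, ∀ b ∈ s, a = b
      · intro ω hω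
        rw [Finset.sum_eq_single ω (fun b hb hne => absurd (hone b hb ω hω) hne)
          (fun h => absurd hω h)] at hsum
        exact hsum
      push Not at hone
      obtain ⟨a, ha, b, hb, hab⟩ := hone
      have step : ∀ a ∈ s, ∀ b ∈ s, a ≠ b → v b = 0 := by
        intro a ha b hb hab
        obtain ⟨i, hi⟩ := Function.ne_iff.mp (hχ.ne hab)
        have h0 : ∑ ω ∈ s.erase a, (χ ω i - χ a i) • v ω = 0 := by
          rw [← Finset.add_sum_erase s _ ha] at hsum
          have h1 : T i (v a + ∑ ω ∈ s.erase a, v ω) - χ a i • (v a + ∑ ω ∈ s.erase a, v ω) = 0 := by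
            rw [hsum]; simp
          rw [map_add, map_sum, hE a _ (hv a ha) i, smul_add, Finset.smul_sum] at h1
          rw [← h1]
          rw [Finset.sum_congr rfl fun ω hω => hE ω _ (hv ω (Finset.mem_of_mem_erase hω)) i]
          simp only [sub_smul, Finset.sum_sub_distrib]
          abel
        have h2 := ih (s.erase a) (by rw [Finset.card_erase_of_mem ha]; omega)
          (fun ω => (χ ω i - χ a i) • v ω)
          (fun ω hω => Submodule.smul_mem _ _ (hv ω (Finset.mem_of_mem_erase hω))) h0 b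
          (Finset.mem_erase.mpr ⟨hab.symm, hb⟩)
        exact (smul_eq_zero.mp h2).resolve_left (sub_ne_zero.mpr (Ne.symm hi))
      intro ω hω
      by_cases h : ω = a
      · exact step b hb ω hω (h ▸ hab.symm)
      · exact step a ha ω hω (Ne.symm h)
  rw [iSupIndep_iff_finsetSum_eq_zero_imp_eq_zero]
  intro s v hv hsum
  exact key s.card s le_rfl v hv hsum

/-- Dimension and fixed-space bound for an operator permuting the parts of a decomposition. -/
theorem finrank_fixed_le {Ω : Type*} [Fintype Ω] [FiniteDimensional K U]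
    (E : Ω → Submodule K U) (hind : iSupIndep E) (hsup : iSup E = ⊤) (d : ℕ)
    (hd : ∀ ω, finrank K (E ω) = d) (X : U →ₗ[K] U) (σ : Equiv.Perm Ω)
    (hX : ∀ ω, ∀ v ∈ E ω, X v ∈ E (σ ω)) (R : Finset Ω)
    (hR : ∀ ω, ∃ r ∈ R, ∃ i : ℕ, (σ ^ i) r = ω) :
    finrank K U = d * Fintype.card Ω ∧ finrank K ↥(LinearMap.ker (X - 1)) ≤ d * R.card := by
  classical
  have hint : DirectSum.IsInternal E :=
    DirectSum.isInternal_submodule_of_iSupIndep_of_iSup_eq_top hind hsup
  let e := LinearEquiv.ofBijective (DirectSum.coeLinearMap E) hint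
  refine ⟨?_, ?_⟩
  · rw [← e.finrank_eq, Module.finrank_directSum]
    simp [hd, mul_comm]
  let π : ∀ ω, U →ₗ[K] E ω := fun ω => (DirectSum.component K Ω (fun i => E i) ω) ∘ₗ e.symm.toLinearMap
  have hπsum : ∀ v, ∑ ω, (π ω v : U) = v := by
    intro v
    conv_rhs => rw [← e.apply_symm_apply v, ← DirectSum.sum_univ_of (e.symm v)]
    rw [map_sum]
    refine Finset.sum_congr rfl fun ω _ => ?_
    change _ = DirectSum.coeLinearMap E (DirectSum.of (fun i => E i) ω (e.symm v ω))
    rw [DirectSum.coeLinearMap_of]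
    rfl
  have hπX : ∀ v, X v = v → ∀ ω, (π (σ ω) v : U) = X (π ω v) := by
    intro v hv
    let w : Ω → U := fun τ => (π τ v : U) - X (π (σ.symm τ) v)
    have hw : ∀ τ ∈ (Finset.univ : Finset Ω), w τ ∈ E τ := by
      intro τ _
      refine Submodule.sub_mem _ (π τ v).2 ?_
      simpa using hX (σ.symm τ) _ (π (σ.symm τ) v).2
    have hsum : ∑ τ, w τ = 0 := by
      simp only [w, Finset.sum_sub_distrib]
      rw [hπsum, Equiv.sum_comp σ.symm (fun ω => X (π ω v : U)), ← map_sum, hπsum, hv, sub_self]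
    intro ω
    have := ((iSupIndep_iff_finsetSum_eq_zero_imp_eq_zero E).mp hind) Finset.univ w hw hsum (σ ω)
      (Finset.mem_univ _)
    simp only [w, sub_eq_zero] at this
    rw [this, show σ.symm (σ ω) = ω from σ.symm_apply_apply ω]
  let Φ : ↥(LinearMap.ker (X - 1)) →ₗ[K] ((r : R) → E r.1) :=
    LinearMap.pi fun r => π r.1 ∘ₗ (LinearMap.ker (X - 1)).subtype
  have hΦ : Function.Injective Φ := by
    rw [← LinearMap.ker_eq_bot]
    refine LinearMap.ker_eq_bot'.mpr fun v hv => ?_
    have hfix : X v.1 = v.1 := sub_eq_zero.mp (LinearMap.mem_ker.mp v.2)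
    have hall : ∀ ω, (π ω v.1 : U) = 0 := by
      intro ω
      obtain ⟨r, hr, i, rfl⟩ := hR ω
      induction i with
      | zero =>
        show (π ((1 : Equiv.Perm Ω) r) v.1 : U) = 0
        exact congrArg Subtype.val (congrFun hv ⟨r, hr⟩)
      | succ i ih => rw [pow_succ', Equiv.Perm.mul_apply, hπX _ hfix, ih, map_zero]
    exact Subtype.ext (by rw [← hπsum v.1]; simp [hall])
  have := LinearMap.finrank_le_finrank_of_injective hΦ
  rw [Module.finrank_pi_fintype] at this
  simpa [hd, mul_comm] using this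

end Cfsg.Agent.Lib.HalfFixed
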